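import Groth.Agent.H11Tilde.ModLoc
import Groth.Agent.H10Coh.QCohOps
import Mathlib.CategoryTheory.Functor.OfSequence
import Mathlib.CategoryTheory.Limits.Types.Limits
import Mathlib.Algebra.Category.ModuleCat.Sheaf.Limits

/-! Sections of inverse limits of sequences of modules on a scheme. -/

set_option autoImplicit false
set_option linter.style.haveILetI false

universe u

open CategoryTheory CategoryTheory.Limits AlgebraicGeometry Opposite TopologicalSpace

namespace Groth.Agent.H24Formal

variable {X : Scheme.{u}}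

/-- Sections over an open. -/
noncomputable def sectFun (U : X.Opens) : X.Modules ⥤ Type u :=
  SheafOfModules.forget X.ringCatSheaf ⋙ PresheafOfModules.evaluation _ (op U) ⋙ forget (ModuleCat.{u} _)

/-- A compatible sequence of sections is a section of the limit. -/
theorem exists_limit_section (G : ℕᵒᵖ ⥤ X.Modules) (U : X.Opens) (s : ∀ n : ℕ, Γ(G.obj (op n), U))
    (hs : ∀ n, (G.map (homOfLE (Nat.le_succ n)).op).app U (s (n + 1)) = s n) :
    ∃ t : Γ(limit G, U), ∀ n, (limit.π G (op n)).app U t = s n := by
  haveI : PreservesLimit G (sectFun U) :=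
    let G' : ℕᵒᵖ ⥤ SheafOfModules.{u} X.ringCatSheaf := G
    haveI h1 : PreservesLimit G (SheafOfModules.forget X.ringCatSheaf) :=
      inferInstanceAs (PreservesLimit G' (SheafOfModules.forget.{u} X.ringCatSheaf))
    haveI h2 : PreservesLimit (G ⋙ SheafOfModules.forget X.ringCatSheaf)
        (PresheafOfModules.evaluation X.ringCatSheaf.obj (op U)) := inferInstance
    haveI h3 : PreservesLimit ((G ⋙ SheafOfModules.forget X.ringCatSheaf) ⋙
        PresheafOfModules.evaluation X.ringCatSheaf.obj (op U)) (forget (ModuleCat.{u} _)) := inferInstance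
    inferInstanceAs (PreservesLimit G (_ ⋙ _ ⋙ _))
  let h := isLimitOfPreserves (sectFun U) (limit.isLimit G)
  have hm : ∀ (m n : ℕ) (hmn : m ≤ n), (sectFun U).map (G.map (homOfLE hmn).op) (s n) = s m := by
    intro m n hmn
    induction hmn with
    | refl =>
      rw [show (homOfLE (le_refl m)).op = 𝟙 (op m) from Subsingleton.elim _ _, G.map_id, (sectFun U).map_id]
      rfl
    | @step n hle ih =>
      rw [show (homOfLE (Nat.le_succ_of_le hle)).op = (homOfLE (Nat.le_succ n)).op ≫ (homOfLE hle).op from
        Subsingleton.elim _ _, G.map_comp, (sectFun U).map_comp]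
      exact (congrArg ((sectFun U).map (G.map (homOfLE hle).op)) (hs n)).trans ih
  let sec : (G ⋙ sectFun U).sections := ⟨fun j => s j.unop, fun {i j} f => by
    have hf : f = (homOfLE (leOfHom f.unop)).op := Subsingleton.elim _ _
    rw [hf]
    exact hm j.unop i.unop (leOfHom f.unop)⟩
  refine ⟨(Types.isLimitEquivSections h).symm sec, fun n => ?_⟩
  exact Types.isLimitEquivSections_symm_apply h sec (op n)

theorem exists_chain {G : ℕ → Type u} (t : ∀ n, G (n + 1) → G n) (ht : ∀ n, Function.Surjective (t n)) (n : ℕ)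
    (a : G n) : ∃ s : ∀ m, G m, s n = a ∧ ∀ m, t m (s (m + 1)) = s m := by
  induction n generalizing G with
  | zero =>
    choose c hc using ht
    exact ⟨fun m => Nat.rec (motive := G) a (fun k b => c k b) m, rfl, fun m => hc m _⟩
  | succ n ih =>
    obtain ⟨s, hs, hs'⟩ := ih (G := fun m => G (m + 1)) (fun m => t (m + 1)) (fun m => ht (m + 1)) a
    refine ⟨fun m => Nat.casesOn (motive := G) m (t 0 (s 0)) (fun k => s k), hs, fun m => ?_⟩
    cases m with
    | zero => rfl
    | succ k => exact hs' k

/-- For a sequence of quasi-coherent modules with epimorphic transition maps, the projections from the limit are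
epimorphisms. -/
theorem epi_limit_π (G : ℕᵒᵖ ⥤ X.Modules) (hq : ∀ n : ℕ, (G.obj (op n)).IsQuasicoherent)
    (he : ∀ n : ℕ, Epi (G.map (homOfLE (Nat.le_succ n)).op)) (n : ℕ) : Epi (limit.π G (op n)) := by
  refine H11Tilde.epi_of_locally_surjective _ fun W a x hx => ?_
  obtain ⟨_, ⟨V, hV, rfl⟩, hxV, hle⟩ := X.isBasis_affineOpens.exists_subset_of_mem_open hx W.2
  have hle' : V ≤ W := hle
  haveI := hq
  haveI := he
  obtain ⟨s, hsn, hs⟩ := exists_chain (G := fun m => Γ(G.obj (op m), V))
    (fun m => (G.map (homOfLE (Nat.le_succ m)).op).app V)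
    (fun m => H10Coh.surjective_app_of_epi _ hV) n ((G.obj (op n)).presheaf.map (homOfLE hle').op a)
  obtain ⟨t, ht⟩ := exists_limit_section G V s hs
  exact ⟨V, hle', hxV, t, (ht n).trans hsn⟩

end Groth.Agent.H24Formal
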