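import Groth.Agent.H24Formal.CohFormal
import Groth.Agent.H17.ConsModModels

/-! Pullback of coherent formal modules. -/

set_option autoImplicit false
set_option linter.style.haveILetI false

universe u

open CategoryTheory CategoryTheory.Limits AlgebraicGeometry Opposite

namespace Groth.Agent.H24Formal

variable {A : Type u} [CommRing A] {X Y : Scheme.{u}} [X.Over (Spec (CommRingCat.of A))]
  [Y.Over (Spec (CommRingCat.of A))] (f : X ⟶ Y)
  (hf : f ≫ (Y ↘ Spec (CommRingCat.of A)) = X ↘ Spec (CommRingCat.of A))

include hf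

theorem pushforward_map_smulMod (N : X.Modules) (a : A) :
    (Scheme.Modules.pushforward f).map (Formal.smulMod A N a) =
      Formal.smulMod A ((Scheme.Modules.pushforward f).obj N) a := by
  refine Scheme.Modules.hom_ext _ _ fun U => ?_
  ext m
  revert m
  change ∀ m : Γ(N, f ⁻¹ᵁ U), (X.presheaf.map (homOfLE (le_top : f ⁻¹ᵁ U ≤ ⊤)).op (Coh.toGlobal (X ↘ Spec (CommRingCat.of A)) a)) • m =
    (f.app U (Y.presheaf.map (homOfLE (le_top : U ≤ ⊤)).op (Coh.toGlobal (Y ↘ Spec (CommRingCat.of A)) a))) • m
  intro m
  congr 1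
  have h1 : Coh.toGlobal (X ↘ Spec (CommRingCat.of A)) a =
      f.appTop (Coh.toGlobal (Y ↘ Spec (CommRingCat.of A)) a) := by
    rw [← hf]
    rfl
  rw [h1]
  exact (congr($(f.naturality (homOfLE (le_top : U ≤ ⊤)).op) (Coh.toGlobal (Y ↘ Spec (CommRingCat.of A)) a))).symm

theorem pullback_map_smulMod (M : Y.Modules) (a : A) :
    (Scheme.Modules.pullback f).map (Formal.smulMod A M a) =
      Formal.smulMod A ((Scheme.Modules.pullback f).obj M) a := by
  apply ((Scheme.Modules.pullbackPushforwardAdjunction f).homEquiv _ _).injective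
  rw [Adjunction.homEquiv_unit, Adjunction.homEquiv_unit, pushforward_map_smulMod f hf]
  exact (((Scheme.Modules.pullbackPushforwardAdjunction f).unit.naturality (Formal.smulMod A M a)).symm).trans
    (smulMod_comm ((Scheme.Modules.pullbackPushforwardAdjunction f).unit.app M) a)

theorem killedBy_pullback {J : Ideal A} {M : Y.Modules} (h : Formal.KilledBy J M) :
    Formal.KilledBy J ((Scheme.Modules.pullback f).obj M) := fun a ha => by
  haveI : (Scheme.Modules.pullback f).Additive :=
    (Scheme.Modules.pullbackPushforwardAdjunction f).left_adjoint_additive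
  rw [← pullback_map_smulMod f hf, h a ha, Functor.map_zero]

theorem isCohFormal_pullback (I : Ideal A) {G : ℕᵒᵖ ⥤ Y.Modules} (hG : Formal.IsCohFormal I G) :
    Formal.IsCohFormal I (G ⋙ Scheme.Modules.pullback f) := by
  haveI : (Scheme.Modules.pullback f).IsLeftAdjoint := (Scheme.Modules.pullbackPushforwardAdjunction f).isLeftAdjoint
  haveI : (Scheme.Modules.pullback f).Additive :=
    (Scheme.Modules.pullbackPushforwardAdjunction f).left_adjoint_additive
  refine ⟨fun n => H17.ConsProp.isCoh_pullback f (hG.1 n), fun n => killedBy_pullback f hf (hG.2.1 n), fun n => ?_⟩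
  obtain ⟨h, hiso⟩ := hG.2.2 n
  let P := Scheme.Modules.pullback f
  let τ := G.map (homOfLE (Nat.le_succ n)).op
  have h' : Formal.smulFamily (I ^ (n + 1)) (P.obj (G.obj (op (n + 1)))) ≫ P.map τ = 0 :=
    smulFamily_comp_eq_zero _ (killedBy_pullback f hf (hG.2.1 n))
  refine ⟨h', ?_⟩
  -- the transition map is a cokernel of the family of multiplications
  have hc : IsColimit (CokernelCofork.ofπ (P.map τ) h') := by
    have h0 : IsColimit (CokernelCofork.ofπ τ h) :=
      cokernel.cokernelIso _ τ (asIso (cokernel.desc _ τ h)) (cokernel.π_desc _ _ _)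
    have h1 := CokernelCofork.mapIsColimit _ h0 P
    refine CokernelCofork.IsColimit.ofπ _ _ (fun g hg => ?_) (fun g hg => ?_) fun g hg m hm => ?_
    · refine h1.desc (CokernelCofork.ofπ g ?_)
      have hdecomp : ∀ a, P.map (Sigma.ι (fun _ : (I ^ (n + 1) : Ideal A) => G.obj (op (n + 1))) a) ≫
          P.map (Formal.smulFamily (I ^ (n + 1)) (G.obj (op (n + 1)))) ≫ g = 0 := fun a => by
        rw [← Category.assoc, ← P.map_comp, Formal.smulFamily, Sigma.ι_desc, pullback_map_smulMod f hf]
        have h2 := Sigma.ι (fun _ : (I ^ (n + 1) : Ideal A) => P.obj (G.obj (op (n + 1)))) a ≫= hg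
        simp only [Formal.smulFamily, Sigma.ι_desc_assoc, comp_zero] at h2
        exact h2
      refine (cancel_epi (sigmaComparison P fun _ : (I ^ (n + 1) : Ideal A) => G.obj (op (n + 1)))).mp ?_
      refine Sigma.hom_ext _ _ fun a => ?_
      rw [comp_zero, comp_zero, ι_comp_sigmaComparison_assoc]
      exact hdecomp a
    · exact h1.fac _ WalkingParallelPair.one
    · refine Cofork.IsColimit.hom_ext h1 ?_
      refine hm.trans ?_
      exact (h1.fac (CokernelCofork.ofπ g _) WalkingParallelPair.one).symm
  exact (hc.coconePointUniqueUpToIso (cokernelIsCokernel _)).symm.isIso_hom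

end Groth.Agent.H24Formal
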