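import Groth.Agent.H24Formal.CohFormal
import Groth.Prelude.Def_Formal2
import Mathlib.CategoryTheory.Abelian.Refinements
import Mathlib.RingTheory.Ideal.Operations

/-! The quotients `M / f^n M` of a module on a scheme over `Spec A`. -/

set_option autoImplicit false
set_option linter.style.haveILetI false

universe u

open CategoryTheory CategoryTheory.Limits AlgebraicGeometry Opposite

namespace Groth.Agent.H24Formal

variable {A : Type u} [CommRing A] {X : Scheme.{u}} [X.Over (Spec (CommRingCat.of A))]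

theorem smulMod_mul (M : X.Modules) (a b : A) :
    Formal.smulMod A M b ≫ Formal.smulMod A M a = Formal.smulMod A M (a * b) := by
  refine SheafOfModules.Hom.ext (PresheafOfModules.hom_ext fun U => ?_)
  ext m
  change Coh.resTop X U (Coh.toGlobal (X ↘ Spec (CommRingCat.of A)) a) •
      (Coh.resTop X U (Coh.toGlobal (X ↘ Spec (CommRingCat.of A)) b) • m) =
    Coh.resTop X U (Coh.toGlobal (X ↘ Spec (CommRingCat.of A)) (a * b)) • m
  rw [map_mul, map_mul, mul_smul]

theorem smulMod_pow_π (f : A) (n : ℕ) (M : X.Modules) :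
    Formal.smulMod A M (f ^ n) ≫ Formal.modPowπ (Ideal.span {f}) n M = 0 := by
  have h := congrArg
    (fun g => Sigma.ι (fun _ : (Ideal.span {f} ^ n : Ideal A) => M)
      ⟨f ^ n, Ideal.pow_mem_pow (Ideal.mem_span_singleton_self f) n⟩ ≫ g)
    (cokernel.condition (Formal.smulFamily (Ideal.span {f} ^ n) M))
  simp only [Formal.smulFamily, Sigma.ι_desc_assoc, comp_zero] at h
  exact h

theorem smulFamily_comp_eq_zero_of_span (f : A) (n : ℕ) {M N : X.Modules} (g : M ⟶ N)
    (h : Formal.smulMod A M (f ^ n) ≫ g = 0) : Formal.smulFamily (Ideal.span {f} ^ n) M ≫ g = 0 := by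
  refine Sigma.hom_ext _ _ fun a => ?_
  have ha : (a : A) ∈ Ideal.span {f ^ n} := (Ideal.span_singleton_pow f n).le a.2
  obtain ⟨c, hc⟩ := Ideal.mem_span_singleton'.mp ha
  rw [Formal.smulFamily, ← Category.assoc, Sigma.ι_desc, comp_zero, ← hc, mul_comm, ← smulMod_mul,
    Category.assoc, h, comp_zero]

/-- `M / f^n M` is the cokernel of multiplication by `f^n`. -/
noncomputable def isColimitModPow (f : A) (n : ℕ) (M : X.Modules) :
    IsColimit (CokernelCofork.ofπ (f := Formal.smulMod A M (f ^ n)) (Formal.modPowπ (Ideal.span {f}) n M)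
      (smulMod_pow_π f n M)) :=
  CokernelCofork.IsColimit.ofπ _ _ (fun g hg => cokernel.desc _ g (smulFamily_comp_eq_zero_of_span f n g hg))
    (fun g hg => cokernel.π_desc _ _ _)
    (fun g hg m hm => coequalizer.hom_ext (by rw [cokernel.π_desc]; exact hm))

theorem exact_smulMod_π (f : A) (n : ℕ) (M : X.Modules) :
    (ShortComplex.mk _ _ (smulMod_pow_π f n M)).Exact :=
  ShortComplex.exact_of_g_is_cokernel _ (isColimitModPow f n M)

instance epi_modPowπ (I : Ideal A) (n : ℕ) (M : X.Modules) : Epi (Formal.modPowπ I n M) :=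
  inferInstanceAs (Epi (cokernel.π _))

/-- For `f` a nonzerodivisor on `M`: `0 → M/fM → M/f^(n+1)M → M/f^n M → 0` is exact, the first map being `f^n`. -/
theorem exists_shortExact_modPow (f : A) (M : X.Modules) (hM : Mono (Formal.smulMod A M f)) (n : ℕ) :
    ∃ i : Formal.modPow (Ideal.span {f}) 1 M ⟶ Formal.modPow (Ideal.span {f}) (n + 1) M, Mono i ∧
      Formal2.modPowLE (Ideal.span {f}) (Nat.le_add_left 1 n) M ≫ i =
        Formal.smulMod A (Formal.modPow (Ideal.span {f}) (n + 1) M) (f ^ n) ∧
      ∃ w : i ≫ Formal.modPowTrans (Ideal.span {f}) n M = 0,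
        (ShortComplex.mk i (Formal.modPowTrans (Ideal.span {f}) n M) w).ShortExact := by
  let I := Ideal.span {f}
  have hw0 : Formal.smulMod A M (f ^ 1) ≫ Formal.smulMod A M (f ^ n) ≫ Formal.modPowπ I (n + 1) M = 0 := by
    rw [← Category.assoc, smulMod_mul, ← pow_add]
    exact smulMod_pow_π f (n + 1) M
  let i : Formal.modPow I 1 M ⟶ Formal.modPow I (n + 1) M :=
    cokernel.desc _ (Formal.smulMod A M (f ^ n) ≫ Formal.modPowπ I (n + 1) M)
      (smulFamily_comp_eq_zero_of_span f 1 _ hw0)
  have hi : Formal.modPowπ I 1 M ≫ i = Formal.smulMod A M (f ^ n) ≫ Formal.modPowπ I (n + 1) M :=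
    cokernel.π_desc _ _ _
  have hmono : ∀ k, Mono (Formal.smulMod A M (f ^ k)) := by
    intro k
    induction k with
    | zero =>
      have h1 : Formal.smulMod A M (f ^ 0) = 𝟙 M := by
        refine SheafOfModules.Hom.ext (PresheafOfModules.hom_ext fun U => ?_)
        ext m
        change Coh.resTop X U (Coh.toGlobal (X ↘ Spec (CommRingCat.of A)) (f ^ 0)) • m = m
        rw [pow_zero, map_one, map_one, one_smul]
      rw [h1]; infer_instance
    | succ k ih =>
      rw [pow_succ', ← smulMod_mul]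
      exact mono_comp _ _
  haveI := hmono n
  have hmi : Mono i := by
    rw [Preadditive.mono_iff_cancel_zero]
    intro T x hx
    obtain ⟨T', q, hq, y, hy⟩ := surjective_up_to_refinements_of_epi (Formal.modPowπ I 1 M) x
    have h1 : (y ≫ Formal.smulMod A M (f ^ n)) ≫ Formal.modPowπ I (n + 1) M = 0 := by
      rw [Category.assoc, ← hi, ← Category.assoc, ← hy, Category.assoc, hx, comp_zero]
    obtain ⟨T'', r, hr, z, hz⟩ := (exact_smulMod_π f (n + 1) M).exact_up_to_refinements _ h1
    dsimp at hz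
    rw [← mul_comm (f ^ n) f |>.trans (pow_succ' f n).symm, ← smulMod_mul, ← Category.assoc r y,
      ← Category.assoc z] at hz
    have h2 : r ≫ y = z ≫ Formal.smulMod A M f := (cancel_mono (Formal.smulMod A M (f ^ n))).mp hz
    refine (cancel_epi (r ≫ q)).mp ?_
    rw [comp_zero, Category.assoc, hy, ← Category.assoc, h2, Category.assoc,
      show Formal.smulMod A M f = Formal.smulMod A M (f ^ 1) by rw [pow_one]]
    exact (congrArg (z ≫ ·) (smulMod_pow_π f 1 M)).trans comp_zero
  refine ⟨i, hmi, ?_, ?_⟩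
  · rw [← cancel_epi (Formal.modPowπ I (n + 1) M), ← Category.assoc, Formal2.modPowπ_modPowLE, hi, smulMod_comm]
  have w : i ≫ Formal.modPowTrans I n M = 0 := by
    rw [← cancel_epi (Formal.modPowπ I 1 M), ← Category.assoc, hi, Category.assoc, Formal.modPowπ_trans, comp_zero]
    exact smulMod_pow_π f n M
  haveI : Epi (Formal.modPowTrans I n M) :=
    epi_of_epi_fac (Formal.modPowπ_trans I n M)
  refine ⟨w, { exact := ?_ }⟩
  rw [ShortComplex.exact_iff_exact_up_to_refinements]
  intro T x hx
  obtain ⟨T', q, hq, y, hy⟩ := surjective_up_to_refinements_of_epi (Formal.modPowπ I (n + 1) M) x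
  have h1 : y ≫ Formal.modPowπ I n M = 0 := by
    rw [← Formal.modPowπ_trans I n M, ← Category.assoc, ← hy, Category.assoc, hx, comp_zero]
  obtain ⟨T'', r, hr, z, hz⟩ := (exact_smulMod_π f n M).exact_up_to_refinements _ h1
  haveI := hq
  haveI := hr
  refine ⟨T'', r ≫ q, epi_comp _ _, z ≫ Formal.modPowπ I 1 M, ?_⟩
  dsimp at hz ⊢
  rw [Category.assoc, hy, ← Category.assoc, hz, Category.assoc, Category.assoc, hi]

end Groth.Agent.H24Formal
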