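import Groth.Agent.H24Formal.Pullback
import Groth.Agent.H24Formal.ModPow
import Groth.Agent.H10Coh.SubMod
import Groth.Agent.H10Coh.FinType2
import Groth.Prelude.Def_Algz

/-! Completions of coherent modules are coherent formal modules, and commute with pullback. -/

set_option autoImplicit false
set_option linter.style.haveILetI false

universe u

open CategoryTheory CategoryTheory.Limits AlgebraicGeometry Opposite

namespace Groth.Agent.H24Formal

variable {A : Type u} [CommRing A] {X : Scheme.{u}} [X.Over (Spec (CommRingCat.of A))]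

theorem smulMod_modPowπ_eq_zero (I : Ideal A) {n : ℕ} {a : A} (ha : a ∈ I ^ n) (M : X.Modules) :
    Formal.smulMod A M a ≫ Formal.modPowπ I n M = 0 := by
  have h := congrArg (fun g => Sigma.ι (fun _ : (I ^ n : Ideal A) => M) ⟨a, ha⟩ ≫ g)
    (cokernel.condition (Formal.smulFamily (I ^ n) M))
  simp only [Formal.smulFamily, Sigma.ι_desc_assoc, comp_zero] at h
  exact h

theorem killedBy_modPow (I : Ideal A) (n : ℕ) (M : X.Modules) : Formal.KilledBy (I ^ n) (Formal.modPow I n M) := by
  intro a ha
  rw [← cancel_epi (Formal.modPowπ I n M), comp_zero, ← smulMod_comm]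
  exact smulMod_modPowπ_eq_zero I ha M

theorem isCoh_modPow (I : Ideal A) (n : ℕ) {M : X.Modules} (hM : Coh.IsCoh M) :
    Coh.IsCoh (Formal.modPow I n M) :=
  H10Coh.isCoh_cokernel (Formal.smulFamily (I ^ n) M)
    (H10Coh.isQuasicoherent_coproduct (fun _ : (I ^ n : Ideal A) => M) fun _ => hM.1) hM

theorem completion_map_succ (I : Ideal A) (M : X.Modules) (n : ℕ) :
    (Formal.completion I M).map (homOfLE (Nat.le_succ n)).op = Formal.modPowTrans I (n + 1) M :=
  Functor.ofOpSequence_map_homOfLE_succ _ n

theorem isCohFormal_completion (I : Ideal A) {M : X.Modules} (hM : Coh.IsCoh M) :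
    Formal.IsCohFormal I (Formal.completion I M) := by
  refine ⟨fun n => isCoh_modPow I (n + 1) hM, fun n => killedBy_modPow I (n + 1) M, fun n => ?_⟩
  have h : Formal.smulFamily (I ^ (n + 1)) ((Formal.completion I M).obj (op (n + 1))) ≫
      (Formal.completion I M).map (homOfLE (Nat.le_succ n)).op = 0 :=
    smulFamily_comp_eq_zero _ (killedBy_modPow I (n + 1) M)
  refine ⟨h, ?_⟩
  have hd : Formal.smulFamily (I ^ (n + 1)) M ≫ Formal.modPowπ I (n + 1 + 1) M ≫
      cokernel.π (Formal.smulFamily (I ^ (n + 1)) ((Formal.completion I M).obj (op (n + 1)))) = 0 := by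
    refine Sigma.hom_ext _ _ fun a => ?_
    simp only [Formal.smulFamily, Sigma.ι_desc_assoc, comp_zero]
    erw [← Category.assoc, smulMod_comm, Category.assoc]
    have h1 := Sigma.ι (fun _ : (I ^ (n + 1) : Ideal A) => (Formal.completion I M).obj (op (n + 1))) a ≫=
      cokernel.condition (Formal.smulFamily (I ^ (n + 1)) ((Formal.completion I M).obj (op (n + 1))))
    simp only [Formal.smulFamily, Sigma.ι_desc_assoc, comp_zero] at h1
    exact (congrArg (Formal.modPowπ I (n + 1 + 1) M ≫ ·) h1).trans comp_zero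
  refine ⟨cokernel.desc _ _ hd, coequalizer.hom_ext ?_, coequalizer.hom_ext ?_⟩
  · rw [← Category.assoc, cokernel.π_desc, Category.comp_id, completion_map_succ]
    refine coequalizer.hom_ext ?_
    change Formal.modPowπ I (n + 1 + 1) M ≫ _ ≫ _ = _
    erw [← Category.assoc, Formal.modPowπ_trans]
    exact cokernel.π_desc _ _ _
  · change Formal.modPowπ I (n + 1) M ≫ _ ≫ _ = Formal.modPowπ I (n + 1) M ≫ 𝟙 _
    rw [Category.comp_id]
    erw [cokernel.π_desc_assoc, Category.assoc, cokernel.π_desc, completion_map_succ]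
    exact Formal.modPowπ_trans I (n + 1) M

variable {Y : Scheme.{u}} [Y.Over (Spec (CommRingCat.of A))] (f : X ⟶ Y)
  (hf : f ≫ (Y ↘ Spec (CommRingCat.of A)) = X ↘ Spec (CommRingCat.of A))

include hf in
theorem nonempty_completion_pullback_iso (I : Ideal A) (M : Y.Modules) :
    Nonempty (Formal.completion I ((Scheme.Modules.pullback f).obj M) ≅
      Formal.completion I M ⋙ Scheme.Modules.pullback f) := by
  haveI : (Scheme.Modules.pullback f).IsLeftAdjoint := (Scheme.Modules.pullbackPushforwardAdjunction f).isLeftAdjoint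
  haveI : (Scheme.Modules.pullback f).Additive :=
    (Scheme.Modules.pullbackPushforwardAdjunction f).left_adjoint_additive
  let P := Scheme.Modules.pullback f
  have hz : ∀ n, Formal.smulFamily (I ^ n) (P.obj M) ≫ P.map (Formal.modPowπ I n M) = 0 := fun n => by
    refine Sigma.hom_ext _ _ fun a => ?_
    rw [Formal.smulFamily, Sigma.ι_desc_assoc, comp_zero, ← pullback_map_smulMod f hf, ← P.map_comp,
      smulMod_modPowπ_eq_zero I a.2 M, P.map_zero]
  have hiso : ∀ n, IsIso (cokernel.desc _ (P.map (Formal.modPowπ I n M)) (hz n)) := by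
    intro n
    have h0 : IsColimit (CokernelCofork.ofπ (Formal.modPowπ I n M) (cokernel.condition _)) :=
      cokernelIsCokernel (Formal.smulFamily (I ^ n) M)
    let h1 := CokernelCofork.mapIsColimit _ h0 P
    have hd : P.map (Formal.smulFamily (I ^ n) M) ≫ Formal.modPowπ I n (P.obj M) = 0 := by
      refine (cancel_epi (sigmaComparison P fun _ : (I ^ n : Ideal A) => M)).mp ?_
      refine Sigma.hom_ext _ _ fun a => ?_
      rw [comp_zero, comp_zero, ι_comp_sigmaComparison_assoc, ← Category.assoc, ← P.map_comp, Formal.smulFamily,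
        Sigma.ι_desc, pullback_map_smulMod f hf]
      exact smulMod_modPowπ_eq_zero I a.2 (P.obj M)
    let d : P.obj (Formal.modPow I n M) ⟶ Formal.modPow I n (P.obj M) := h1.desc (CokernelCofork.ofπ _ hd)
    have hfac : P.map (Formal.modPowπ I n M) ≫ d = Formal.modPowπ I n (P.obj M) :=
      h1.fac (CokernelCofork.ofπ _ hd) WalkingParallelPair.one
    have hπ : Formal.modPowπ I n (P.obj M) ≫ cokernel.desc _ (P.map (Formal.modPowπ I n M)) (hz n) =
        P.map (Formal.modPowπ I n M) := cokernel.π_desc _ _ _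
    refine ⟨d, (cancel_epi (Formal.modPowπ I n (P.obj M))).mp ?_, (cancel_epi (P.map (Formal.modPowπ I n M))).mp ?_⟩
    · refine (Category.assoc _ _ _).symm.trans ?_
      exact ((congrArg (· ≫ d) hπ).trans hfac).trans (Category.comp_id _).symm
    · exact (Category.assoc _ _ _).symm.trans (((congrArg (· ≫ _) hfac).trans hπ).trans (Category.comp_id _).symm)
  let η : Formal.completion I (P.obj M) ⟶ Formal.completion I M ⋙ P :=
    NatTrans.ofOpSequence (fun n => cokernel.desc _ (P.map (Formal.modPowπ I (n + 1) M)) (hz (n + 1))) fun n => by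
      rw [Functor.comp_map, completion_map_succ, completion_map_succ]
      refine coequalizer.hom_ext ?_
      change Formal.modPowπ I (n + 1 + 1) (P.obj M) ≫ _ ≫ _ = Formal.modPowπ I (n + 1 + 1) (P.obj M) ≫ _ ≫ _
      erw [← Category.assoc, Formal.modPowπ_trans, cokernel.π_desc, cokernel.π_desc_assoc, ← P.map_comp,
        Formal.modPowπ_trans]
  haveI : ∀ j, IsIso (η.app j) := fun j => hiso (j.unop + 1)
  haveI : IsIso η := NatIso.isIso_of_isIso_app η
  exact ⟨asIso η⟩

theorem nonempty_completion_congr (I : Ideal A) {M N : X.Modules} (e : M ≅ N) :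
    Nonempty (Formal.completion I M ≅ Formal.completion I N) := by
  have hz : ∀ {M N : X.Modules} (g : M ⟶ N) (n : ℕ),
      Formal.smulFamily (I ^ n) M ≫ g ≫ Formal.modPowπ I n N = 0 := fun {M N} g n => by
    refine Sigma.hom_ext _ _ fun a => ?_
    rw [Formal.smulFamily, Sigma.ι_desc_assoc, comp_zero, ← Category.assoc, smulMod_comm, Category.assoc,
      smulMod_modPowπ_eq_zero I a.2 N, comp_zero]
  let η : Formal.completion I M ⟶ Formal.completion I N :=
    NatTrans.ofOpSequence (fun n => cokernel.desc _ (e.hom ≫ Formal.modPowπ I (n + 1) N) (hz e.hom (n + 1))) fun n => by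
      rw [completion_map_succ, completion_map_succ]
      refine coequalizer.hom_ext ?_
      change Formal.modPowπ I (n + 1 + 1) M ≫ _ ≫ _ = Formal.modPowπ I (n + 1 + 1) M ≫ _ ≫ _
      erw [← Category.assoc, Formal.modPowπ_trans, cokernel.π_desc, cokernel.π_desc_assoc, Category.assoc,
        Formal.modPowπ_trans]
  haveI : ∀ j, IsIso (η.app j) := fun ⟨n⟩ => by
    refine ⟨cokernel.desc _ (e.inv ≫ Formal.modPowπ I (n + 1) M) (hz e.inv (n + 1)), coequalizer.hom_ext ?_,
      coequalizer.hom_ext ?_⟩
    · erw [← Category.assoc, cokernel.π_desc, Category.assoc, cokernel.π_desc, e.hom_inv_id_assoc, Category.comp_id]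
      rfl
    · erw [← Category.assoc, cokernel.π_desc, Category.assoc, cokernel.π_desc, e.inv_hom_id_assoc, Category.comp_id]
      rfl
  haveI : IsIso η := NatIso.isIso_of_isIso_app η
  exact ⟨asIso η⟩

end Groth.Agent.H24Formal
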