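import Groth.Agent.H24Formal.SectionSystem
import Groth.Agent.H24Formal.Completion
import Groth.Agent.LeadFF.Limit
import Groth.Agent.H29Ref.HomSections
import Groth.Agent.H29Ref.ClassMap
import Groth.Agent.H10Coh.SheafHom.Pullback
import Groth.Agent.H02CA.HomQuot
import Groth.Agent.H28NT.Connectedness

/-! Morphisms between completions of coherent modules whose supports meet properly. -/

set_option autoImplicit false
set_option linter.style.haveILetI false
set_option linter.unusedSectionVars false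

universe u

open CategoryTheory CategoryTheory.Limits AlgebraicGeometry Opposite TopologicalSpace

noncomputable section

namespace Groth.Agent.H24Formal.HomC

variable {A : Type u} [CommRing A] {X : Scheme.{u}} [X.Over (Spec (CommRingCat.of A))]

/-- The map on sections as a linear map. -/
def appL {M N : X.Modules} (φ : M ⟶ N) (U : X.Opens) : Γ(M, U) →ₗ[Γ(X, U)] Γ(N, U) where
  toFun := φ.app U
  map_add' := fun x y => map_add (φ.app U).hom x y
  map_smul' := fun r x => Scheme.Modules.Hom.app_smul φ r x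

theorem appL_apply {M N : X.Modules} (φ : M ⟶ N) (U : X.Opens) (m : Γ(M, U)) : appL φ U m = φ.app U m := rfl

/-- The ideal generated by `I` in the functions on `U`. -/
def secIdeal (I : Ideal A) (U : X.Opens) : Ideal Γ(X, U) := I.map (scalA A U)

theorem smul_le_ker_modPowπ (I : Ideal A) (n : ℕ) (M : X.Modules) (U : X.Opens) :
    secIdeal I U ^ n • (⊤ : Submodule Γ(X, U) Γ(M, U)) ≤ LinearMap.ker (appL (Formal.modPowπ I n M) U) := by
  have hpow : secIdeal I U ^ n = (I ^ n).map (scalA A U) := (Ideal.map_pow _ I n).symm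
  let K : Ideal Γ(X, U) :=
    { carrier := {r | ∀ m : Γ(M, U), r • m ∈ LinearMap.ker (appL (Formal.modPowπ I n M) U)}
      add_mem' := fun {a b} ha hb m => by rw [add_smul]; exact add_mem (ha m) (hb m)
      zero_mem' := fun m => by rw [zero_smul]; exact zero_mem _
      smul_mem' := fun c a ha m => by
        show (c * a) • m ∈ _
        rw [mul_smul]
        exact Submodule.smul_mem _ c (ha m) }
  have hK : (I ^ n).map (scalA A U) ≤ K := Ideal.map_le_iff_le_comap.2 fun a ha m => by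
    rw [LinearMap.mem_ker, ← smulMod_app M a U m, appL_apply]
    have h1 : Formal.smulMod A M a ≫ Formal.modPowπ I n M = 0 := smulMod_modPowπ_eq_zero I ha M
    exact congr($(congrArg (fun k => Scheme.Modules.Hom.app k U) h1) m)
  rw [hpow]
  exact Submodule.smul_le.2 fun r hr m _ => hK hr m

theorem ker_modPowπ [IsLocallyNoetherian X] (I : Ideal A) (hI : I.FG) (n : ℕ) {M : X.Modules} (hM : Coh.IsCoh M)
    {U : X.Opens} (hU : IsAffineOpen U) :
    LinearMap.ker (appL (Formal.modPowπ I n M) U) = secIdeal I U ^ n • (⊤ : Submodule Γ(X, U) Γ(M, U)) := by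
  haveI := hM.1
  haveI := (isCoh_modPow I n hM).1
  have hpow : secIdeal I U ^ n = (I ^ n).map (scalA A U) := (Ideal.map_pow _ I n).symm
  refine le_antisymm (fun m hm => ?_) ?_
  · have h : Formal.smulFamily (I ^ n) M ≫ Formal.modPowπ I n M = 0 := cokernel.condition _
    have hd : cokernel.desc _ (Formal.modPowπ I n M) h = 𝟙 (Formal.modPow I n M) :=
      coequalizer.hom_ext ((cokernel.π_desc _ _ h).trans (Category.comp_id _).symm)
    have hmem := mem_smul_of_app_eq_zero (hI.pow (n := n)) (Formal.modPowπ I n M) h (by rw [hd]; exact IsIso.id _) hU m hm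
    refine Submodule.smul_induction_on hmem
      (p := fun q : SecMod A M U => (show Γ(M, U) from q) ∈ secIdeal I U ^ n • (⊤ : Submodule Γ(X, U) Γ(M, U)))
      (fun a ha q _ => ?_) (fun p q hp hq => add_mem (M := Γ(M, U)) hp hq)
    show scalA A U a • (show Γ(M, U) from q) ∈ _
    exact Submodule.smul_mem_smul (hpow ▸ Ideal.mem_map_of_mem _ ha) trivial
  · exact smul_le_ker_modPowπ I n M U

theorem surjective_modPowπ [IsLocallyNoetherian X] (I : Ideal A) (n : ℕ) {M : X.Modules} (hM : Coh.IsCoh M)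
    {U : X.Opens} (hU : IsAffineOpen U) : Function.Surjective (appL (Formal.modPowπ I n M) U) := by
  haveI := hM.1
  haveI := (isCoh_modPow I n hM).1
  haveI : Epi (Formal.modPowπ I n M) := coequalizer.π_epi
  exact H10Coh.surjective_app_of_epi _ hU

theorem scalA_res {W U : X.Opens} (h : W ≤ U) (a : A) :
    X.presheaf.map (homOfLE h).op (scalA A U a) = scalA A W a := by
  exact congr($((X.presheaf.map_comp (homOfLE (le_top : U ≤ ⊤)).op (homOfLE h).op).symm)
    (Coh.toGlobal (X ↘ Spec (CommRingCat.of A)) a))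

/-- On a Noetherian scheme an ideal of the base acts through a finitely generated subideal. -/
theorem exists_fg_le [IsNoetherian X] (J : Ideal A) :
    ∃ J₀ : Ideal A, J₀.FG ∧ J₀ ≤ J ∧ ∀ {M T : X.Modules} (g : M ⟶ T),
      (∀ a ∈ J₀, Formal.smulMod A M a ≫ g = 0) → ∀ a ∈ J, Formal.smulMod A M a ≫ g = 0 := by
  classical
  choose U hU hxU hUW using fun x : X => exists_isAffineOpen_mem_and_subset (U := ⊤) (x := x) trivial
  obtain ⟨s, hs⟩ := (isCompact_univ (X := X)).elim_finite_subcover (fun x : X => (U x : Set X))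
    (fun x => (U x).2) fun x _ => Set.mem_iUnion.2 ⟨x, hxU _⟩
  have hfg : ∀ x : X, ∃ t : Finset Γ(X, U x), (↑t : Set Γ(X, U x)) ⊆ scalA A (U x) '' J ∧
      J.map (scalA A (U x)) = Ideal.span t := fun x => by
    haveI := IsLocallyNoetherian.component_noetherian (X := X) ⟨U x, hU x⟩
    exact (Submodule.fg_span_iff_fg_span_finset_subset _).1 (IsNoetherian.noetherian _)
  choose t ht hJt using hfg
  choose pre hpreJ hpre using fun (x : X) (r : {r // r ∈ t x}) => ht x r.2
  let gens : Set A := ⋃ x ∈ s, Set.range (pre x)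
  have hgens : gens.Finite := s.finite_toSet.biUnion fun x _ => Set.finite_range (pre x)
  refine ⟨Ideal.span gens, Submodule.fg_span hgens,
    Ideal.span_le.2 (Set.iUnion₂_subset fun x _ => Set.range_subset_iff.2 fun r => hpreJ x r), ?_⟩
  intro M T g hg a ha
  refine hom_ext_app _ _ fun W m => H29Ref.sec_ext _ fun y hy => ?_
  obtain ⟨x, hx, hyx⟩ : ∃ x ∈ s, y ∈ U x := by simpa using hs (Set.mem_univ y)
  rw [← H29Ref.germ_res _ (inf_le_left : W ⊓ U x ≤ W) y ⟨hy, hyx⟩,
    ← H29Ref.germ_res _ (inf_le_left : W ⊓ U x ≤ W) y ⟨hy, hyx⟩]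
  congr 1
  rw [← H11Tilde.app_map_apply, ← H11Tilde.app_map_apply]
  let m' := M.presheaf.map (homOfLE (inf_le_left : W ⊓ U x ≤ W)).op m
  let K : Ideal Γ(X, U x) :=
    { carrier := {r | g.app (W ⊓ U x) (X.presheaf.map (homOfLE (inf_le_right : W ⊓ U x ≤ U x)).op r • m') = 0}
      add_mem' := fun {a b} (ha : g.app _ _ = 0) (hb : g.app _ _ = 0) => by
        show g.app _ _ = 0
        rw [map_add, add_smul, map_add, ha, hb, add_zero]
      zero_mem' := by
        show g.app _ _ = 0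
        rw [map_zero, zero_smul, map_zero]
      smul_mem' := fun c b (hb : g.app _ _ = 0) => by
        show g.app _ _ = 0
        rw [smul_eq_mul, map_mul, mul_smul, Scheme.Modules.Hom.app_smul, hb, smul_zero] }
  have hK : J.map (scalA A (U x)) ≤ K := by
    rw [hJt x]
    refine Ideal.span_le.2 fun r hr => ?_
    show g.app _ (X.presheaf.map _ r • m') = 0
    obtain ⟨q, rfl⟩ : ∃ q : {z // z ∈ t x}, (q : Γ(X, U x)) = r := ⟨⟨r, hr⟩, rfl⟩
    rw [← hpre x q, scalA_res, ← smulMod_app M _ _ m']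
    exact congr($(congrArg (fun k => Scheme.Modules.Hom.app k (W ⊓ U x))
      (hg (pre x q) (Ideal.subset_span (Set.mem_biUnion hx ⟨_, rfl⟩)))) m')
  have h2 : g.app _ (X.presheaf.map _ (scalA A (U x) a) • m') = 0 := hK (Ideal.mem_map_of_mem _ ha)
  rw [scalA_res] at h2
  exact h2

/-- `ker_modPowπ` on a Noetherian scheme, with no finiteness of the ideal. -/
theorem ker_modPowπ_of_isNoetherian [IsNoetherian X] (I : Ideal A) (n : ℕ) {M : X.Modules} (hM : Coh.IsCoh M)
    {U : X.Opens} (hU : IsAffineOpen U) :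
    LinearMap.ker (appL (Formal.modPowπ I n M) U) = secIdeal I U ^ n • (⊤ : Submodule Γ(X, U) Γ(M, U)) := by
  haveI := hM.1
  haveI := (isCoh_modPow I n hM).1
  obtain ⟨J₀, hfg, hle, hkill⟩ := exists_fg_le (X := X) (I ^ n)
  have hpow : secIdeal I U ^ n = (I ^ n).map (scalA A U) := (Ideal.map_pow _ I n).symm
  refine le_antisymm (fun m hm => ?_) (smul_le_ker_modPowπ I n M U)
  have h : Formal.smulFamily J₀ M ≫ Formal.modPowπ I n M = 0 := Sigma.hom_ext _ _ fun b => by
    rw [Formal.smulFamily, Sigma.ι_desc_assoc, comp_zero]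
    exact smulMod_modPowπ_eq_zero I (hle b.2) M
  have hc : Formal.smulFamily (I ^ n) M ≫ cokernel.π (Formal.smulFamily J₀ M) = 0 := Sigma.hom_ext _ _ fun b => by
    refine (Sigma.ι_desc_assoc _ b _).trans ?_
    rw [comp_zero]
    refine hkill _ (fun a ha => ?_) _ b.2
    have h1 := Sigma.ι (fun _ : J₀ => M) ⟨a, ha⟩ ≫= cokernel.condition (Formal.smulFamily J₀ M)
    simp only [Formal.smulFamily, Sigma.ι_desc_assoc] at h1
    exact h1
  have hiso : IsIso (cokernel.desc _ (Formal.modPowπ I n M) h) := by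
    refine ⟨cokernel.desc (Formal.smulFamily (I ^ n) M) _ hc, ?_, ?_⟩
    · refine coequalizer.hom_ext ?_
      exact (cokernel.π_desc_assoc _ _ _ _).trans ((cokernel.π_desc _ _ _).trans (Category.comp_id _).symm)
    · refine coequalizer.hom_ext ?_
      exact (cokernel.π_desc_assoc _ _ _ _).trans ((cokernel.π_desc _ _ _).trans (Category.comp_id _).symm)
  have hmem := mem_smul_of_app_eq_zero hfg (Formal.modPowπ I n M) h hiso hU m hm
  refine Submodule.smul_induction_on hmem
    (p := fun q : SecMod A M U => (show Γ(M, U) from q) ∈ secIdeal I U ^ n • (⊤ : Submodule Γ(X, U) Γ(M, U)))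
    (fun a ha q _ => ?_) (fun p q hp hq => add_mem (M := Γ(M, U)) hp hq)
  show scalA A U a • (show Γ(M, U) from q) ∈ _
  exact Submodule.smul_mem_smul (hpow ▸ Ideal.mem_map_of_mem _ (hle ha)) trivial

section Agree

variable (I : Ideal A) {M N : X.Modules} (ψ : Formal.completion I M ⟶ Formal.completion I N)

/-- The map to the `n`-th truncation of the target. -/
def lev (n : ℕ) : M ⟶ Formal.modPow I (n + 1) N := Formal.modPowπ I (n + 1) M ≫ ψ.app (op n)

/-- The projection to the `n`-th truncation. -/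
abbrev pr (n : ℕ) (P : X.Modules) : P ⟶ Formal.modPow I (n + 1) P := Formal.modPowπ I (n + 1) P

theorem lev_map {n k : ℕ} (h : n ≤ k) :
    lev I ψ k ≫ (Formal.completion I N).map (homOfLE h).op = lev I ψ n := by
  show (Formal.modPowπ I (k + 1) M ≫ ψ.app (op k)) ≫ _ = Formal.modPowπ I (n + 1) M ≫ ψ.app (op n)
  refine (Category.assoc _ _ _).trans ((congrArg (Formal.modPowπ I (k + 1) M ≫ ·) (ψ.naturality (homOfLE h).op).symm).trans
    ((Category.assoc _ _ _).symm.trans ?_))
  exact congrArg (· ≫ ψ.app (op n)) (LeadFF.modPowπ_completion_map I M h)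

/-- A section of the sheaf Hom induces `ψ` at level `n`. -/
def Agree (n : ℕ) {U : X.Opens} (f : Γ(RefHull.homSh M N, U)) : Prop :=
  ∀ y : U, (RefHull.stalkMapₗ (pr I n N) y.1).comp (f.1 y) = RefHull.stalkMapₗ (lev I ψ n) y.1

theorem agree_res {n : ℕ} {U V : X.Opens} (h : V ≤ U) {f : Γ(RefHull.homSh M N, U)} (hf : Agree I ψ n f) :
    Agree I ψ n ((RefHull.homSh M N).presheaf.map (homOfLE h).op f) := fun y => hf ⟨y.1, h y.2⟩

theorem agree_of_le {n k : ℕ} (h : n ≤ k) {U : X.Opens} {f : Γ(RefHull.homSh M N, U)} (hf : Agree I ψ k f) :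
    Agree I ψ n f := fun y => LinearMap.ext fun v => by
  show RefHull.stalkMapₗ (Formal.modPowπ I (n + 1) N) y.1 (f.1 y v) = RefHull.stalkMapₗ (lev I ψ n) y.1 v
  rw [← LeadFF.modPowπ_completion_map I N h, ← lev_map I ψ h]
  exact (H29Ref.stalkMapₗ_comp_apply _ _ _ _).trans ((congrArg _ (LinearMap.congr_fun (hf y) v)).trans
    (H29Ref.stalkMapₗ_comp_apply _ _ _ _).symm)

theorem agree_iff (hM : Coh.IsQCoh M) {n : ℕ} {U : X.Opens} (hU : IsAffineOpen U) (f : Γ(RefHull.homSh M N, U)) :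
    Agree I ψ n f ↔ ∀ m : Γ(M, U), (pr I n N).app U (H29Ref.toLin f m) = (lev I ψ n).app U m := by
  refine ⟨fun hf m => H29Ref.sec_ext _ fun y hy => ?_, fun h y => ?_⟩
  · rw [← RefHull.stalkMapₗ_germ, ← RefHull.stalkMapₗ_germ, H29Ref.germ_toLin f m ⟨y, hy⟩]
    exact LinearMap.congr_fun (hf ⟨y, hy⟩) _
  · refine LinearMap.ext_on_range (H29Ref.span_germ_all M hM hU le_rfl y.1 y.2) fun m => ?_
    show RefHull.stalkMapₗ (pr I n N) y.1 (f.1 y _) = _
    rw [← H29Ref.germ_toLin f m y, RefHull.stalkMapₗ_germ, RefHull.stalkMapₗ_germ, h]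

/-- A section of the sheaf Hom is zero at level `n`. -/
def AgreeZero (n : ℕ) {U : X.Opens} (f : Γ(RefHull.homSh M N, U)) : Prop :=
  ∀ y : U, (RefHull.stalkMapₗ (pr I n N) y.1).comp (f.1 y) = 0

theorem agreeZero_sub {n : ℕ} {U : X.Opens} {f f' : Γ(RefHull.homSh M N, U)} (hf : Agree I ψ n f)
    (hf' : Agree I ψ n f') : AgreeZero I n (f - f') := fun y => by
  show (RefHull.stalkMapₗ (pr I n N) y.1).comp (f.1 y - f'.1 y) = 0
  rw [LinearMap.comp_sub, hf y, hf' y, sub_self]

variable [IsNoetherian X] (hM : Coh.IsCoh M) (hN : Coh.IsCoh N)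
include hM hN

theorem exists_agree {U : X.Opens} (hU : IsAffineOpen U) (n : ℕ) :
    ∃ f : Γ(RefHull.homSh M N, U), Agree I ψ n f := by
  haveI := IsLocallyNoetherian.component_noetherian (X := X) ⟨U, hU⟩
  haveI := ((H10Coh.isCoh_iff_finite_sections M).1 hM).2 U hU
  haveI := ((H10Coh.isCoh_iff_finite_sections N).1 hN).2 U hU
  obtain ⟨c, hc, -, -⟩ := H02CA.HomQuot.exists_lift (secIdeal I U) (M := Γ(M, U)) (N := Γ(N, U))
  let L := appL (pr I (n + c) N) U
  have hL : LinearMap.ker L = secIdeal I U ^ (n + 1 + c) • ⊤ := by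
    rw [show n + 1 + c = n + c + 1 by omega]
    exact ker_modPowπ_of_isNoetherian I (n + c + 1) hN hU
  let e := (Submodule.quotEquivOfEq _ _ hL.symm).trans (L.quotKerEquivOfSurjective (surjective_modPowπ I _ hN hU))
  obtain ⟨g, hg⟩ := hc (n + 1) (e.symm.toLinearMap ∘ₗ appL (lev I ψ (n + c)) U)
  obtain ⟨f, hf⟩ := (H29Ref.bijective_toLinₗ M N hM.1 hU).2 g
  refine ⟨f, (agree_iff I ψ hM.1 hU f).2 fun m => ?_⟩
  obtain ⟨w, hw⟩ := surjective_modPowπ I _ hN hU ((lev I ψ (n + c)).app U m)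
  have hmem := hg m w (by
    show e.symm ((lev I ψ (n + c)).app U m) = _
    rw [← hw, LinearEquiv.symm_apply_eq]
    rfl)
  rw [← ker_modPowπ_of_isNoetherian I (n + 1) hN hU, LinearMap.mem_ker, map_sub, sub_eq_zero] at hmem
  rw [← hf] at hmem
  refine hmem.trans ?_
  rw [appL_apply, ← LeadFF.modPowπ_completion_map I N (Nat.le_add_right n c),
    ← lev_map I ψ (Nat.le_add_right n c)]
  exact congrArg (((Formal.completion I N).map (homOfLE (Nat.le_add_right n c)).op).app U) hw

theorem exists_bound_affine {U : X.Opens} (hU : IsAffineOpen U) :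
    ∃ c : ℕ, ∀ (n : ℕ) (f : Γ(RefHull.homSh M N, U)), AgreeZero I (n + c) f →
      (pr I n (RefHull.homSh M N)).app U f = 0 := by
  haveI := IsLocallyNoetherian.component_noetherian (X := X) ⟨U, hU⟩
  haveI := ((H10Coh.isCoh_iff_finite_sections M).1 hM).2 U hU
  haveI := ((H10Coh.isCoh_iff_finite_sections N).1 hN).2 U hU
  obtain ⟨t, g, hg⟩ := Submodule.fg_iff_exists_fin_generating_family.1 (Module.Finite.fg_top (R := Γ(X, U)) (M := Γ(M, U)))
  let E : (Γ(M, U) →ₗ[Γ(X, U)] Γ(N, U)) →ₗ[Γ(X, U)] (Fin t → Γ(N, U)) :=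
    LinearMap.pi fun i => LinearMap.applyₗ (g i)
  have hE : Function.Injective E := fun a b h => LinearMap.ext_on_range hg fun i => congrFun h i
  obtain ⟨c, hc⟩ := H02CA.HomQuot.exists_mem_pow_of_map_mem (secIdeal I U) E hE
  refine ⟨c, fun n f hf => ?_⟩
  have hval : ∀ m, H29Ref.toLin f m ∈ secIdeal I U ^ (n + 1 + c) • (⊤ : Submodule Γ(X, U) Γ(N, U)) := fun m => by
    rw [show n + 1 + c = n + c + 1 by omega, ← ker_modPowπ_of_isNoetherian I (n + c + 1) hN hU]
    refine H29Ref.sec_ext _ fun y hy => ?_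
    rw [map_zero, appL_apply, ← RefHull.stalkMapₗ_germ, H29Ref.germ_toLin f m ⟨y, hy⟩]
    exact LinearMap.congr_fun (hf ⟨y, hy⟩) _
  have hp : H29Ref.toLinₗ M N U f ∈ secIdeal I U ^ (n + 1) • (⊤ : Submodule Γ(X, U) (Γ(M, U) →ₗ[Γ(X, U)] Γ(N, U))) :=
    hc (n + 1) _ ((H02CA.HomQuot.mem_smul_top_pi _).2 fun i => hval (g i))
  let e := LinearEquiv.ofBijective (H29Ref.toLinₗ M N U) (H29Ref.bijective_toLinₗ M N hM.1 hU)
  have hmem := Submodule.mem_map_of_mem (f := e.symm.toLinearMap) hp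
  rw [Submodule.map_smul''] at hmem
  have he : e.symm (H29Ref.toLinₗ M N U f) = f := e.symm_apply_apply f
  rw [LinearEquiv.coe_coe, he] at hmem
  have hmem' : f ∈ LinearMap.ker (appL (pr I n (RefHull.homSh M N)) U) :=
    (ker_modPowπ_of_isNoetherian I (n + 1) (H29Ref.isCoh_homSh M N hM hN) hU).ge (Submodule.smul_mono le_rfl le_top hmem)
  exact hmem'

theorem exists_bound (W : X.Opens) :
    ∃ c : ℕ, ∀ (n k : ℕ), n + c ≤ k → ∀ (f f' : Γ(RefHull.homSh M N, W)) (ψ : Formal.completion I M ⟶ Formal.completion I N),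
      Agree I ψ k f → Agree I ψ k f' →
      (pr I n (RefHull.homSh M N)).app W f = (pr I n (RefHull.homSh M N)).app W f' := by
  classical
  have hW : IsCompact (W : Set X) := NoetherianSpace.isCompact _
  choose U hU hxU hUW using fun x : W => exists_isAffineOpen_mem_and_subset (U := W) x.2
  choose c hc using fun x : W => exists_bound_affine I hM hN (hU x)
  obtain ⟨s, hs⟩ := hW.elim_finite_subcover (fun x : W => (U x : Set X)) (fun x => (U x).2)
    fun x hx => Set.mem_iUnion.2 ⟨⟨x, hx⟩, hxU _⟩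
  refine ⟨s.sup c, fun n k hk f f' ψ hf hf' => H29Ref.sec_ext _ fun y hy => ?_⟩
  obtain ⟨x, hx, hyx⟩ : ∃ x ∈ s, y ∈ U x := by simpa using hs hy
  have hle : U x ≤ W := hUW x
  have hle' : n + c x ≤ k := le_trans (Nat.add_le_add_left (Finset.le_sup hx) n) hk
  have h0 := hc x n ((RefHull.homSh M N).presheaf.map (homOfLE hle).op (f - f'))
    (fun z => agreeZero_sub I ψ (agree_of_le I ψ hle' hf) (agree_of_le I ψ hle' hf') ⟨z.1, hle z.2⟩)
  rw [H11Tilde.app_map_apply, map_sub, map_sub, sub_eq_zero] at h0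
  rw [← H29Ref.germ_res _ hle y hyx, ← H29Ref.germ_res _ hle y hyx, h0]

end Agree

theorem support_homSh_subset [IsLocallyNoetherian X] {M N : X.Modules} (hM : Coh.IsCoh M) (hN : Coh.IsCoh N) :
    CohB1.support (RefHull.homSh M N) ⊆ CohB1.support M ∩ CohB1.support N := by
  intro x hx
  by_contra h
  apply hx
  have hcl := (LeadProper.isClosed_support M hM.1 hM.2).inter (LeadProper.isClosed_support N hN.1 hN.2)
  let V : X.Opens := ⟨_, hcl.isOpen_compl⟩
  refine subsingleton_of_forall_eq 0 fun v => ?_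
  obtain ⟨U, hxU, f, rfl⟩ := TopCat.Presheaf.exists_germ_eq (RefHull.homSh M N).presheaf v
  have h0 : (RefHull.homSh M N).presheaf.map (homOfLE (inf_le_left : U ⊓ V ≤ U)).op f = 0 := by
    refine Subtype.ext (funext fun y => LinearMap.ext fun w => ?_)
    show f.1 ⟨y.1, y.2.1⟩ w = 0
    rcases not_and_or.1 y.2.2 with hyM | hyN
    · haveI : Subsingleton (M.presheaf.stalk y.1) := not_not.1 hyM
      rw [Subsingleton.elim w 0, map_zero]
    · haveI : Subsingleton (N.presheaf.stalk y.1) := not_not.1 hyN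
      exact Subsingleton.elim _ _
  rw [← (RefHull.homSh M N).presheaf.germ_res_apply (homOfLE (inf_le_left : U ⊓ V ≤ U)) x ⟨hxU, h⟩ f, h0, map_zero]

theorem existsUnique_hom_of_bijective [IsNoetherian X] (I : Ideal A)
    {M N : X.Modules} (hM : Coh.IsCoh M) (hN : Coh.IsCoh N)
    (hbij : Function.Bijective (Formal.toHHlim I (RefHull.homSh M N) 0))
    (ψ : Formal.completion I M ⟶ Formal.completion I N) :
    ∃! φ : M ⟶ N, ∀ n : ℕ, Formal.modPowπ I (n + 1) M ≫ ψ.app (op n) = φ ≫ Formal.modPowπ I (n + 1) N := by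
  classical
  let H := RefHull.homSh M N
  have hH : Coh.IsCoh H := H29Ref.isCoh_homSh M N hM hN
  have hval : ∀ (x : Coh.HH X H 0) (n : ℕ),
      H10Coh.HH0Equiv _ ((Formal.toHHlim I H 0 x).1 n) = (pr I n H).app ⊤ (H10Coh.HH0Equiv H x) := fun x n =>
    H28NT.HH0Equiv_map (pr I n H) x
  have hiff : ∀ φ : M ⟶ N, (∀ n : ℕ, Formal.modPowπ I (n + 1) M ≫ ψ.app (op n) = φ ≫ Formal.modPowπ I (n + 1) N) ↔
      ∀ n, Agree I ψ n (RefHull.ofHom φ ⊤) := by
    refine fun φ => forall_congr' fun n => ⟨fun h y => LinearMap.ext fun v => ?_, fun h => ?_⟩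
    · show RefHull.stalkMapₗ (pr I n N) y.1 (RefHull.stalkMapₗ φ y.1 v) = RefHull.stalkMapₗ (lev I ψ n) y.1 v
      rw [← H29Ref.stalkMapₗ_comp_apply]
      exact congrArg (fun k => RefHull.stalkMapₗ k y.1 v) h.symm
    · refine hom_ext_app _ _ fun U m => H29Ref.sec_ext _ fun y hy => ?_
      exact (RefHull.stalkMapₗ_germ _ y hy m).symm.trans ((LinearMap.congr_fun (h ⟨y, trivial⟩) _).symm.trans
        ((H29Ref.stalkMapₗ_comp_apply φ _ _ _).symm.trans (RefHull.stalkMapₗ_germ _ y hy m)))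
  choose U hU hxU hUW using fun x : X => exists_isAffineOpen_mem_and_subset (U := ⊤) (x := x) trivial
  obtain ⟨s, hs'⟩ := (isCompact_univ (X := X)).elim_finite_subcover (fun x : X => (U x : Set X))
    (fun x => (U x).2) fun x _ => Set.mem_iUnion.2 ⟨x, hxU _⟩
  obtain ⟨c₀, hc₀⟩ := exists_bound I hM hN (⊤ : X.Opens)
  choose c hc using fun p : X × X => exists_bound I hM hN (U p.1 ⊓ U p.2)
  choose c' hc' using fun x : X => exists_bound I hM hN (U x)
  let C := (s ×ˢ s).sup c ⊔ s.sup c'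
  have hcov : (⊤ : X.Opens) ≤ ⨆ x : s, U x.1 := fun y _ => by
    obtain ⟨x, hx, hyx⟩ : ∃ x ∈ s, y ∈ U x := by simpa using hs' (Set.mem_univ y)
    exact Opens.mem_iSup.2 ⟨⟨x, hx⟩, hyx⟩
  choose f hf using fun (x : X) (n : ℕ) => exists_agree I ψ hM hN (hU x) (n + C)
  let loc := fun (n : ℕ) (x : s) => (pr I n H).app (U x.1) (f x.1 n)
  have hcompat : ∀ n, TopCat.Presheaf.IsCompatible (H10Coh.sh (Formal.modPow I (n + 1) H)).obj
      (fun x : s => U x.1) (loc n) := fun n a b => by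
    refine (H11Tilde.app_map_apply (pr I n H) inf_le_left (f a.1 n)).symm.trans ?_
    refine Eq.trans ?_ (H11Tilde.app_map_apply (pr I n H) inf_le_right (f b.1 n))
    exact hc (a.1, b.1) n (n + C) (Nat.add_le_add_left (le_trans
      (Finset.le_sup (f := c) (Finset.mk_mem_product a.2 b.2)) le_sup_left) n) _ _ ψ
      (agree_res I ψ _ (hf a.1 n)) (agree_res I ψ _ (hf b.1 n))
  choose t ht _ using fun n => TopCat.Sheaf.existsUnique_gluing' (H10Coh.sh (Formal.modPow I (n + 1) H))
    (fun x : s => U x.1) ⊤ (fun x => homOfLE le_top) hcov (loc n) (hcompat n)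
  have htrans : ∀ n, (Formal.modPowTrans I (n + 1) H).app ⊤ (t (n + 1)) = t n := fun n => by
    refine TopCat.Sheaf.eq_of_locally_eq' (H10Coh.sh (Formal.modPow I (n + 1) H)) (fun x : s => U x.1) ⊤
      (fun x => homOfLE le_top) hcov _ _ fun x => ?_
    refine (H11Tilde.app_map_apply (Formal.modPowTrans I (n + 1) H) (le_top : U x.1 ≤ ⊤) (t (n + 1))).symm.trans ?_
    refine (congrArg _ (ht (n + 1) x)).trans (Eq.trans ?_ (ht n x).symm)
    refine (congr($(congrArg (fun k => Scheme.Modules.Hom.app k (U x.1)) (Formal.modPowπ_trans I (n + 1) H)) (f x.1 (n + 1)))).trans ?_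
    exact hc' x.1 n (n + C) (Nat.add_le_add_left (le_trans (Finset.le_sup x.2) le_sup_right) n) _ _ ψ
      (agree_of_le I ψ (by omega) (hf x.1 (n + 1))) (hf x.1 n)
  obtain ⟨z, hz⟩ := hbij.2 ⟨fun n => (H10Coh.HH0Equiv _).symm (t n), fun n => by
    refine (H10Coh.HH0Equiv _).injective ?_
    refine (H28NT.HH0Equiv_map (Formal.modPowTrans I (n + 1) H) _).trans ?_
    exact (congrArg _ (AddEquiv.apply_symm_apply _ _)).trans ((htrans n).trans (AddEquiv.apply_symm_apply _ _).symm)⟩
  have hzt : ∀ n, (pr I n H).app ⊤ (H10Coh.HH0Equiv H z) = t n := fun n => by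
    rw [← hval, hz]
    exact AddEquiv.apply_symm_apply _ _
  obtain ⟨φ, hφ⟩ := H10Coh.SheafHom.ofHom_surjective (H10Coh.HH0Equiv H z)
  have hagree : ∀ n, Agree I ψ n (RefHull.ofHom φ ⊤) := fun n => by
    rw [hφ]
    intro y
    obtain ⟨x, hyx⟩ := Opens.mem_iSup.1 (hcov (show y.1 ∈ (⊤ : X.Opens) from trivial))
    let sU := H.presheaf.map (homOfLE (le_top : U x.1 ≤ ⊤)).op (H10Coh.HH0Equiv H z)
    have h1 : (pr I n H).app (U x.1) sU = (pr I n H).app (U x.1) (f x.1 n) := by
      rw [H11Tilde.app_map_apply, hzt]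
      exact ht n x
    have h2 : ∀ m, (pr I n N).app (U x.1) (H29Ref.toLin sU m) = (pr I n N).app (U x.1) (H29Ref.toLin (f x.1 n) m) := by
      intro m
      have hk : sU - f x.1 n ∈ LinearMap.ker (appL (pr I n H) (U x.1)) := by
        rw [LinearMap.mem_ker, map_sub, appL_apply, appL_apply, h1, sub_self]
      rw [ker_modPowπ_of_isNoetherian I (n + 1) hH (hU x.1)] at hk
      have hk' := Submodule.mem_map_of_mem (f := (LinearMap.applyₗ m).comp (H29Ref.toLinₗ M N (U x.1))) hk
      rw [Submodule.map_smul''] at hk'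
      have hk'' := (ker_modPowπ_of_isNoetherian I (n + 1) hN (hU x.1)).ge (Submodule.smul_mono le_rfl le_top hk')
      rw [LinearMap.mem_ker, map_sub, map_sub, sub_eq_zero] at hk''
      exact hk''
    have h3 : Agree I ψ n sU := (agree_iff I ψ hM.1 (hU x.1) sU).2 fun m =>
      (h2 m).trans ((agree_iff I ψ hM.1 (hU x.1) _).1 (agree_of_le I ψ (Nat.le_add_right n C) (hf x.1 n)) m)
    exact h3 ⟨y.1, hyx⟩
  refine ⟨φ, (hiff φ).2 hagree, fun φ' hφ' => H10Coh.SheafHom.ofHom_injective ?_⟩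
  have heq : ∀ n, (pr I n H).app ⊤ (RefHull.ofHom φ' ⊤) = (pr I n H).app ⊤ (RefHull.ofHom φ ⊤) := fun n =>
    hc₀ n (n + c₀) le_rfl _ _ ψ ((hiff φ').1 hφ' _) (hagree _)
  refine (H10Coh.HH0Equiv H).symm.injective (hbij.1 (Subtype.ext (funext fun n => ?_)))
  refine (H10Coh.HH0Equiv _).injective ?_
  rw [hval, hval, AddEquiv.apply_symm_apply, AddEquiv.apply_symm_apply]
  exact heq n

theorem existsUnique_hom [IsNoetherianRing A] (I : Ideal A) [IsAdicComplete I A]
    [LocallyOfFiniteType (X ↘ Spec (CommRingCat.of A))] [QuasiCompact (X ↘ Spec (CommRingCat.of A))]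
    {M N : X.Modules} (hM : Coh.IsCoh M) (hN : Coh.IsCoh N)
    (hs : ClSub.IsProperOver (X ↘ Spec (CommRingCat.of A)) (CohB1.support M ∩ CohB1.support N))
    (ψ : Formal.completion I M ⟶ Formal.completion I N) :
    ∃! φ : M ⟶ N, ∀ n : ℕ, Formal.modPowπ I (n + 1) M ≫ ψ.app (op n) = φ ≫ Formal.modPowπ I (n + 1) N := by
  classical
  haveI : IsLocallyNoetherian X := LocallyOfFiniteType.isLocallyNoetherian (X ↘ Spec (CommRingCat.of A))
  haveI : CompactSpace X := QuasiCompact.compactSpace_of_compactSpace (X ↘ Spec (CommRingCat.of A))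
  haveI : IsNoetherian X := ⟨⟩
  have hH : Coh.IsCoh (RefHull.homSh M N) := H29Ref.isCoh_homSh M N hM hN
  exact existsUnique_hom_of_bijective I hM hN (LeadFF.toHHlim_bijective I _ 0 ⟨hH, LeadProper.isProperOver_mono hs
    (LeadProper.isClosed_support _ hH.1 hH.2) (support_homSh_subset hM hN)⟩) ψ

end Groth.Agent.H24Formal.HomC
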