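import Groth.Prelude.Def_Algz
import Groth.Prelude.Def_Formal

/-!
Objects of Coh(X, I O_X): transition maps are the quotients by powers of the ideal.
-/

set_option autoImplicit false
set_option linter.style.haveILetI false

universe u

open CategoryTheory CategoryTheory.Limits AlgebraicGeometry Opposite

namespace Groth.Agent.H24Formal

variable {A : Type u} [CommRing A] {X : Scheme.{u}} [X.Over (Spec (CommRingCat.of A))]

theorem smulMod_comm {M N : X.Modules} (f : M ⟶ N) (a : A) :
    Formal.smulMod A M a ≫ f = f ≫ Formal.smulMod A N a := by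
  refine SheafOfModules.Hom.ext (PresheafOfModules.hom_ext fun U => ?_)
  ext m
  exact (f.val.app U).hom.map_smul _ m

theorem smulFamily_comp_eq_zero {J : Ideal A} {M N : X.Modules} (f : M ⟶ N) (hN : Formal.KilledBy J N) :
    Formal.smulFamily J M ≫ f = 0 := by
  refine Sigma.hom_ext _ _ fun a => ?_
  rw [Formal.smulFamily, ← Category.assoc, Sigma.ι_desc, comp_zero, smulMod_comm, hN a a.2, comp_zero]

theorem smulFamily_comp_of_le {J J' : Ideal A} (h : J' ≤ J) {M N : X.Modules} (f : M ⟶ N)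
    (hf : Formal.smulFamily J M ≫ f = 0) : Formal.smulFamily J' M ≫ f = 0 := by
  refine Sigma.hom_ext _ _ fun a => ?_
  have h1 := (Sigma.ι (fun _ : J => M) ⟨a, h a.2⟩) ≫= hf
  rw [Formal.smulFamily, ← Category.assoc, Sigma.ι_desc, comp_zero] at h1
  rw [Formal.smulFamily, ← Category.assoc, Sigma.ι_desc, comp_zero]
  exact h1

/-- Composite of quotient maps: if `e : M ⟶ N` is an epimorphism killing `J` and `h` kills `J'`-multiples,
maps killing `J`-multiples factor. -/
theorem epi_and_factor {I : Ideal A} {G : ℕᵒᵖ ⥤ X.Modules} (hG : Formal.IsCohFormal I G) {n m : ℕ} (h : n ≤ m) :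
    Epi (G.map (homOfLE h).op) ∧ ∀ {T : X.Modules} (f : G.obj (op m) ⟶ T),
      Formal.smulFamily (I ^ (n + 1)) (G.obj (op m)) ≫ f = 0 → ∃ g, G.map (homOfLE h).op ≫ g = f := by
  induction h with
  | refl =>
    have e : (homOfLE (le_refl n)).op = 𝟙 (op n) := Subsingleton.elim _ _
    rw [e, CategoryTheory.Functor.map_id]
    exact ⟨inferInstance, fun f _ => ⟨f, Category.id_comp f⟩⟩
  | @step m hle ih =>
    obtain ⟨hz, hiso⟩ := hG.2.2 m
    haveI := hiso
    let τ := G.map (homOfLE (Nat.le_succ m)).op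
    have hτ : τ = cokernel.π _ ≫ cokernel.desc _ τ hz := (cokernel.π_desc _ _ _).symm
    haveI : Epi τ := by rw [hτ]; exact epi_comp _ _
    have e : (homOfLE (Nat.le_succ_of_le hle)).op = (homOfLE (Nat.le_succ m)).op ≫ (homOfLE hle).op := Subsingleton.elim _ _
    haveI := ih.1
    rw [e, Functor.map_comp]
    refine ⟨epi_comp _ _, fun {T} f hf => ?_⟩
    obtain ⟨g, hg⟩ : ∃ g, τ ≫ g = f := by
      refine ⟨inv (cokernel.desc _ τ hz) ≫ cokernel.desc _ f
        (smulFamily_comp_of_le (Ideal.pow_le_pow_right (Nat.succ_le_succ hle)) f hf), ?_⟩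
      exact (congrArg (· ≫ inv (cokernel.desc _ τ hz) ≫ cokernel.desc _ f _) hτ).trans
        ((Category.assoc _ _ _).trans ((congrArg (cokernel.π _ ≫ ·) (IsIso.hom_inv_id_assoc _ _)).trans (cokernel.π_desc _ _ _)))
    obtain ⟨g', hg'⟩ := ih.2 g (by
      refine Sigma.hom_ext _ _ fun a => ?_
      rw [Formal.smulFamily, ← Category.assoc, Sigma.ι_desc, comp_zero, ← cancel_epi τ, ← Category.assoc,
        ← smulMod_comm, Category.assoc, hg, comp_zero]
      have h1 := (Sigma.ι (fun _ : (I ^ (n + 1) : Ideal A) => G.obj (op (m + 1))) a) ≫= hf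
      rwa [Formal.smulFamily, ← Category.assoc, Sigma.ι_desc, comp_zero] at h1)
    exact ⟨g', by rw [Category.assoc, hg', hg]⟩

/-- Levelwise morphisms out of a re-indexed system descend uniquely. -/
theorem existsUnique_descend {I : Ideal A} (F G : ℕᵒᵖ ⥤ X.Modules)
    (hF : Formal.IsCohFormal I F) (hG : Formal.IsCohFormal I G) (m : ℕ → ℕ) (hm : Monotone m)
    (hle : ∀ n : ℕ, n ≤ m n) (π : DerCA.reindex F hm ⟶ F)
    (hπ : ∀ n : ℕ, π.app (op n) = F.map (homOfLE (hle n)).op) (α : DerCA.reindex F hm ⟶ G) :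
    ∃! β : F ⟶ G, π ≫ β = α := by
  haveI hepi : ∀ n, Epi (π.app n) := fun n => by
    have := (epi_and_factor hF (hle n.unop)).1
    rw [← hπ] at this
    exact this
  choose g hg using fun n : ℕ => (epi_and_factor hF (hle n)).2 (α.app (op n))
    (smulFamily_comp_eq_zero _ (hG.2.1 n))
  have hg' : ∀ n : ℕᵒᵖ, π.app n ≫ g n.unop = α.app n := fun n => by
    have := hg n.unop
    rw [← hπ] at this
    exact this
  refine ⟨{ app := fun n => g n.unop, naturality := fun n n' f => ?_ }, ?_, fun β hβ => ?_⟩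
  · haveI := hepi n
    rw [← cancel_epi (π.app n), ← Category.assoc, ← π.naturality, Category.assoc, hg', α.naturality,
      ← Category.assoc, hg']
  · ext n : 2
    exact hg' n
  · ext n : 2
    haveI := hepi n
    rw [← cancel_epi (π.app n), ← NatTrans.comp_app, hβ, hg']

/-- Pro-isomorphic objects of Coh(X, I O_X) are isomorphic. -/
theorem nonempty_iso_of_isProIsomorphic {I : Ideal A} (F G : ℕᵒᵖ ⥤ X.Modules)
    (hF : Formal.IsCohFormal I F) (hG : Formal.IsCohFormal I G) (h : Algz.IsProIsomorphic F G) :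
    Nonempty (F ≅ G) := by
  obtain ⟨m, hm, hle, a, ha⟩ := h
  let π : DerCA.reindex F hm ⟶ F :=
    { app := fun n => F.map (homOfLE (hle n.unop)).op
      naturality := fun n n' f => by
        show F.map _ ≫ F.map _ = F.map _ ≫ F.map _
        rw [← Functor.map_comp, ← Functor.map_comp]
        exact congrArg F.map (Subsingleton.elim _ _) }
  obtain ⟨β, hβ, -⟩ := existsUnique_descend F G hF hG m hm hle π (fun n => rfl) a
  suffices hiso : ∀ n, IsIso (β.app n) by
    haveI := NatIso.isIso_of_isIso_app β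
    exact ⟨asIso β⟩
  rintro ⟨n⟩
  obtain ⟨k, hk, b, hb1, hb2⟩ := ha n
  obtain ⟨g, hg⟩ := (epi_and_factor hG hk).2 (b ≫ π.app (op n)) (smulFamily_comp_eq_zero _ (hF.2.1 n))
  haveI := (epi_and_factor hG hk).1
  haveI : Epi (π.app (op n)) := (epi_and_factor hF (hle n)).1
  haveI : Epi (ARSys.tr (DerCA.reindex F hm) hk) := (epi_and_factor hF (hm hk)).1
  have hb' : π.app (op n) ≫ β.app (op n) = a.app (op n) := by rw [← NatTrans.comp_app, hβ]
  refine ⟨g, ?_, ?_⟩
  · rw [← cancel_epi (π.app (op n)), Category.comp_id, ← Category.assoc, hb', ← cancel_epi (ARSys.tr (DerCA.reindex F hm) hk),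
      ← Category.assoc, a.naturality, Category.assoc, hg, ← Category.assoc, hb1]
  · rw [← cancel_epi (G.map (homOfLE hk).op), Category.comp_id, ← Category.assoc, hg, Category.assoc, hb', hb2]

end Groth.Agent.H24Formal
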