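import Groth.Agent.H24Formal.LimitSections
import Groth.Agent.H24Formal.CohFormal
import Groth.Agent.H24Formal.ModPow
import Groth.Agent.H24Adic.LimitSystem
import Groth.Agent.H11Tilde.ModLoc
import Groth.Agent.H10Coh.QCohOps
import Groth.Prelude.Def_Formal2

/-! The adic system of sections of a formal module over an affine open, and the truncations of its limit. -/

set_option autoImplicit false
set_option linter.style.haveILetI false

universe u

open CategoryTheory CategoryTheory.Limits AlgebraicGeometry Opposite TopologicalSpace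

namespace Groth.Agent.H24Formal

variable {A : Type u} [CommRing A] {X : Scheme.{u}} [X.Over (Spec (CommRingCat.of A))]

variable (A) in
/-- Scalars of `A` on sections over `V`. -/
noncomputable def scalA (V : X.Opens) : A →+* Γ(X, V) :=
  (X.presheaf.map (homOfLE (le_top : V ≤ ⊤)).op).hom.comp (Coh.toGlobal (X ↘ Spec (CommRingCat.of A)))

theorem smulMod_app (M : X.Modules) (a : A) (V : X.Opens) (m : Γ(M, V)) :
    (Formal.smulMod A M a).app V m = scalA A V a • m := rfl

variable (A) in
/-- Sections over `V` as an `A`-module. -/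
noncomputable def SecMod (M : X.Modules) (V : X.Opens) : ModuleCat.{u} A :=
  letI := Module.compHom Γ(M, V) (scalA A V)
  ModuleCat.of A Γ(M, V)

variable (A) in
/-- The map on sections over `V`. -/
noncomputable def secMap {M N : X.Modules} (φ : M ⟶ N) (V : X.Opens) : SecMod A M V →ₗ[A] SecMod A N V where
  toFun := φ.app V
  map_add' := fun x y => map_add (φ.app V).hom x y
  map_smul' := fun a x => Scheme.Modules.Hom.app_smul φ (scalA A V a) x

theorem secMap_apply {M N : X.Modules} (φ : M ⟶ N) (V : X.Opens) (x : Γ(M, V)) :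
    secMap A φ V x = φ.app V x := rfl

theorem smul_secMod (M : X.Modules) (a : A) (V : X.Opens) (m : SecMod A M V) :
    a • m = (Formal.smulMod A M a).app V m := rfl

theorem hom_ext_app {M N : X.Modules} (f g : M ⟶ N) (h : ∀ (U : X.Opens) (s : Γ(M, U)), f.app U s = g.app U s) :
    f = g :=
  Scheme.Modules.hom_ext _ _ fun U => ConcreteCategory.hom_ext _ _ (h U)

theorem smulMod_add (M : X.Modules) (a b : A) :
    Formal.smulMod A M (a + b) = Formal.smulMod A M a + Formal.smulMod A M b :=
  hom_ext_app _ _ fun U s => by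
    show scalA A U (a + b) • s = scalA A U a • s + scalA A U b • s
    rw [map_add, add_smul]

theorem smulMod_zero (M : X.Modules) : Formal.smulMod A M 0 = 0 :=
  hom_ext_app _ _ fun U s => by
    show scalA A U 0 • s = 0
    rw [map_zero, zero_smul]

theorem smulFamily_comp_eq_zero_of_gens {ι : Type*} (a : ι → A) {J : Ideal A} (hJ : J ≤ Ideal.span (Set.range a))
    {M N : X.Modules} (g : M ⟶ N) (h : ∀ i, Formal.smulMod A M (a i) ≫ g = 0) :
    Formal.smulFamily J M ≫ g = 0 := by
  let K : Ideal A :=
    { carrier := {b | Formal.smulMod A M b ≫ g = 0}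
      add_mem' := fun {x y} (hx : Formal.smulMod A M x ≫ g = 0) (hy : Formal.smulMod A M y ≫ g = 0) => by
        show Formal.smulMod A M (x + y) ≫ g = 0
        rw [smulMod_add, Preadditive.add_comp, hx, hy, add_zero]
      zero_mem' := by
        show Formal.smulMod A M 0 ≫ g = 0
        rw [smulMod_zero, zero_comp]
      smul_mem' := fun c x (hx : Formal.smulMod A M x ≫ g = 0) => by
        show Formal.smulMod A M (c * x) ≫ g = 0
        rw [mul_comm, ← smulMod_mul, Category.assoc, hx, comp_zero] }
  have hle : Ideal.span (Set.range a) ≤ K := Ideal.span_le.mpr (by rintro _ ⟨i, rfl⟩; exact h i)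
  refine Sigma.hom_ext _ _ fun b => ?_
  rw [Formal.smulFamily, Sigma.ι_desc_assoc, comp_zero]
  exact hle (hJ b.2)

theorem exists_kernel_section {M N : X.Modules} (φ : M ⟶ N) (U : X.Opens) (z : Γ(M, U))
    (hz : φ.app U z = 0) : ∃ y, (kernel.ι φ).app U y = z := by
  have hz' : (cokernel.π (kernel.ι φ)).app U z = 0 := by
    refine H10Coh.injective_app_of_mono' (Abelian.factorThruCoimage φ) U ?_
    refine (congr($(Abelian.coimage.fac φ).app U z)).trans (hz.trans ?_)
    exact (map_zero _).symm
  have hS : (ShortComplex.mk (kernel.ι φ) (cokernel.π (kernel.ι φ)) (cokernel.condition _)).ShortExact :=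
    { exact := ShortComplex.exact_cokernel _ }
  exact H10Coh.exists_app_eq_of_exact hS U z hz'

/-- On an affine open the kernel of a quotient by `J` is `J` times the sections. -/
theorem mem_smul_of_app_eq_zero {J : Ideal A} (hJ : J.FG) {G G' : X.Modules} [G.IsQuasicoherent]
    [G'.IsQuasicoherent] (τ : G ⟶ G') (h : Formal.smulFamily J G ≫ τ = 0) (hiso : IsIso (cokernel.desc _ τ h))
    {V : X.Opens} (hV : IsAffineOpen V) (s : SecMod A G V) (hs : τ.app V s = 0) :
    s ∈ J • (⊤ : Submodule A (SecMod A G V)) := by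
  classical
  obtain ⟨r, a, ha⟩ := Submodule.fg_iff_exists_fin_generating_family.1 hJ
  have haJ : ∀ i, a i ∈ J := fun i => ha ▸ Submodule.subset_span ⟨i, rfl⟩
  let φ : (⨁ fun _ : Fin r => G) ⟶ G := biproduct.desc fun i => Formal.smulMod A G (a i)
  have hφ : φ ≫ τ = 0 := by
    refine biproduct.hom_ext' _ _ fun i => ?_
    rw [biproduct.ι_desc_assoc, comp_zero]
    have h1 := Sigma.ι (fun _ : J => G) ⟨a i, haJ i⟩ ≫= h
    simp only [Formal.smulFamily, Sigma.ι_desc_assoc, comp_zero] at h1
    exact h1
  let S := ShortComplex.mk φ τ hφ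
  have hτ : τ = cokernel.π _ ≫ cokernel.desc _ τ h := (cokernel.π_desc _ _ _).symm
  haveI : Epi τ := by rw [hτ]; exact epi_comp _ _
  have hfac : ∀ {T : X.Modules} (g : G ⟶ T), φ ≫ g = 0 → Formal.smulFamily J G ≫ g = 0 := fun {T} g hg =>
    smulFamily_comp_eq_zero_of_gens a ha.ge g fun i => by
      have h1 := biproduct.ι (fun _ : Fin r => G) i ≫= hg
      simp only [φ, biproduct.ι_desc_assoc, comp_zero] at h1
      exact h1
  have hS : S.Exact := ShortComplex.exact_of_g_is_cokernel _
    (CokernelCofork.IsColimit.ofπ _ _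
      (fun g hg => inv (cokernel.desc _ τ h) ≫ cokernel.desc _ g (hfac g hg))
      (fun g hg => ((congrArg (· ≫ inv (cokernel.desc _ τ h) ≫ cokernel.desc _ g (hfac g hg)) hτ).trans
        ((Category.assoc _ _ _).trans
          ((congrArg (cokernel.π _ ≫ ·) (IsIso.hom_inv_id_assoc _ _)).trans (cokernel.π_desc _ _ _)))))
      (fun g hg m hm => by
        rw [← cancel_epi τ]
        refine hm.trans ?_
        exact ((congrArg (· ≫ inv (cokernel.desc _ τ h) ≫ cokernel.desc _ g (hfac g hg)) hτ).trans
          ((Category.assoc _ _ _).trans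
            ((congrArg (cokernel.π _ ≫ ·) (IsIso.hom_inv_id_assoc _ _)).trans (cokernel.π_desc _ _ _)))).symm))
  haveI : Epi (kernel.lift τ φ hφ) := S.exact_iff_epi_kernel_lift.mp hS
  haveI := H10Coh.isQuasicoherent_kernel τ
  haveI := H10Coh.isQuasicoherent_biproduct (fun _ : Fin r => G)
  obtain ⟨y, hy⟩ := exists_kernel_section τ V s hs
  obtain ⟨z, hz⟩ := H10Coh.surjective_app_of_epi (kernel.lift τ φ hφ) hV y
  have hzs : φ.app V z = s := by
    rw [← hy, ← hz]
    exact (congr($(congrArg (fun k => Scheme.Modules.Hom.app k V) (kernel.lift_ι τ φ hφ)) z)).symm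
  have hsum : secMap A φ V z = ∑ i, a i • secMap A (biproduct.π (fun _ : Fin r => G) i) V z := by
    have h1 : φ = ∑ i, biproduct.π (fun _ : Fin r => G) i ≫ Formal.smulMod A G (a i) := biproduct.desc_eq
    have h2 : ∀ (f : Fin r → ((⨁ fun _ : Fin r => G) ⟶ G)),
        secMap A (∑ i, f i) V z = ∑ i, secMap A (f i) V z := fun f => by
      induction (Finset.univ : Finset (Fin r)) using Finset.induction_on with
      | empty => rfl
      | insert i t hi ih =>
        rw [Finset.sum_insert hi, Finset.sum_insert hi, ← ih]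
        rfl
    rw [h1, h2]
    rfl
  have hmem : secMap A φ V z ∈ J • (⊤ : Submodule A (SecMod A G V)) := by
    rw [hsum]
    exact Submodule.sum_mem _ fun i _ => Submodule.smul_mem_smul (haJ i) trivial
  rw [← hzs]
  exact hmem

theorem limit_section_ext (G : ℕᵒᵖ ⥤ X.Modules) (U : X.Opens) (s t : Γ(limit G, U))
    (h : ∀ n : ℕ, (limit.π G (op n)).app U s = (limit.π G (op n)).app U t) : s = t := by
  haveI : PreservesLimit G (sectFun U) :=
    let G' : ℕᵒᵖ ⥤ SheafOfModules.{u} X.ringCatSheaf := G
    haveI h1 : PreservesLimit G (SheafOfModules.forget X.ringCatSheaf) :=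
      inferInstanceAs (PreservesLimit G' (SheafOfModules.forget.{u} X.ringCatSheaf))
    haveI h2 : PreservesLimit (G ⋙ SheafOfModules.forget X.ringCatSheaf)
        (PresheafOfModules.evaluation X.ringCatSheaf.obj (op U)) := inferInstance
    haveI h3 : PreservesLimit ((G ⋙ SheafOfModules.forget X.ringCatSheaf) ⋙
        PresheafOfModules.evaluation X.ringCatSheaf.obj (op U)) (forget (ModuleCat.{u} _)) := inferInstance
    inferInstanceAs (PreservesLimit G (_ ⋙ _ ⋙ _))
  let hl := isLimitOfPreserves (sectFun U) (limit.isLimit G)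
  refine (Types.isLimitEquivSections hl).injective (Subtype.ext (funext fun j => ?_))
  exact h j.unop

theorem epi_map_succ {I : Ideal A} {G : ℕᵒᵖ ⥤ X.Modules} (hG : Formal2.IsQCohFormal I G) (n : ℕ) :
    Epi (G.map (homOfLE (Nat.le_succ n)).op) := by
  obtain ⟨hz, hiso⟩ := hG.2.2 n
  haveI : Epi (cokernel.desc _ _ hz) := @IsIso.epi_of_iso _ _ _ _ _ hiso
  haveI : Epi (cokernel.π (Formal.smulFamily (I ^ (n + 1)) (G.obj (op (n + 1))))) := coequalizer.π_epi
  rw [← cokernel.π_desc _ _ hz]
  exact @epi_comp _ _ _ _ _ _ ‹_› _ ‹_›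

/-- The sections over an affine open form an adic system with limit the sections of the limit. -/
noncomputable def sectionSystem {I : Ideal A} (hI : I.FG) {G : ℕᵒᵖ ⥤ X.Modules} (hG : Formal2.IsQCohFormal I G)
    {V : X.Opens} (hV : IsAffineOpen V) :
    H24Adic.AdicSystem I (fun n => SecMod A (G.obj (op n)) V) (SecMod A (limit G) V) where
  f n := secMap A (G.map (homOfLE (Nat.le_succ n)).op) V
  hf n := by
    haveI := hG.1 n
    haveI := hG.1 (n + 1)
    haveI := epi_map_succ hG n
    exact H10Coh.surjective_app_of_epi _ hV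
  hker n := by
    refine le_antisymm (fun s hs => ?_) ?_
    · haveI := hG.1 n
      haveI := hG.1 (n + 1)
      obtain ⟨hz, hiso⟩ := hG.2.2 n
      exact mem_smul_of_app_eq_zero (hI.pow (n := n + 1)) _ hz hiso hV s hs
    · refine Submodule.smul_le.mpr fun b hb x _ => ?_
      rw [LinearMap.mem_ker, map_smul]
      exact congr($(congrArg (fun k => Scheme.Modules.Hom.app k V) (hG.2.1 n b hb))
        (secMap A (G.map (homOfLE (Nat.le_succ n)).op) V x))
  π n := secMap A (limit.π G (op n)) V
  hπ n := LinearMap.ext fun x =>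
    congr($(congrArg (fun k => Scheme.Modules.Hom.app k V) (limit.w G (homOfLE (Nat.le_succ n)).op)) x)
  hinj x hx := limit_section_ext G V x 0 fun n => (hx n).trans (map_zero _).symm
  hlift y hy := exists_limit_section G V y hy

theorem exists_isIso_limit_truncation {I : Ideal A} (hI : I.FG) {G : ℕᵒᵖ ⥤ X.Modules}
    (hG : Formal2.IsQCohFormal I G) (n : ℕ) :
    ∃ h : Formal.smulFamily (I ^ (n + 1)) (limit G) ≫ limit.π G (op n) = 0, IsIso (cokernel.desc _ _ h) := by
  have h : Formal.smulFamily (I ^ (n + 1)) (limit G) ≫ limit.π G (op n) = 0 :=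
    smulFamily_comp_eq_zero _ (hG.2.1 n)
  refine ⟨h, ?_⟩
  haveI : Epi (limit.π G (op n)) := epi_limit_π G hG.1 (epi_map_succ hG) n
  have hexact : (ShortComplex.mk _ _ h).Exact := by
    refine H11Tilde.exact_of_locally _ fun W t ht x hx => ?_
    obtain ⟨V, hV, hxV, hle⟩ := exists_isAffineOpen_mem_and_subset (U := W) hx
    have hle' : V ≤ W := hle
    refine ⟨V, hle', hxV, ?_⟩
    let t' : SecMod A (limit G) V := (limit G).presheaf.map (homOfLE hle').op t
    have ht' : t' ∈ LinearMap.ker ((sectionSystem hI hG hV).π n) := by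
      show (limit.π G (op n)).app V ((limit G).presheaf.map (homOfLE hle').op t) = 0
      exact (H11Tilde.app_map_apply (limit.π G (op n)) hle' t).trans
        ((congrArg _ ht).trans (map_zero _))
    rw [(sectionSystem hI hG hV).ker_eq_of_fg hI] at ht'
    have key : ∀ q : SecMod A (limit G) V, q ∈ I ^ (n + 1) • (⊤ : Submodule A (SecMod A (limit G) V)) →
        ∃ s, (Formal.smulFamily (I ^ (n + 1)) (limit G)).app V s = q := by
      intro q hq
      refine Submodule.smul_induction_on hq (fun b hb y _ => ?_) fun p q hp hq => ?_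
      · refine ⟨(Sigma.ι (fun _ : (I ^ (n + 1) : Ideal A) => limit G) ⟨b, hb⟩).app V y, ?_⟩
        exact congr($(congrArg (fun k => Scheme.Modules.Hom.app k V)
          (Sigma.ι_desc (fun a : (I ^ (n + 1) : Ideal A) => Formal.smulMod A (limit G) (a : A)) ⟨b, hb⟩)) y)
      · obtain ⟨a, ha⟩ := hp
        obtain ⟨c, hc⟩ := hq
        exact ⟨a + c, (map_add _ _ _).trans (congrArg₂ (· + ·) ha hc)⟩
    exact key t' ht'
  haveI : Mono (cokernel.desc _ _ h) := (ShortComplex.exact_iff_mono_cokernel_desc _).mp hexact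
  haveI : Epi (cokernel.desc _ _ h) := epi_of_epi_fac (cokernel.π_desc _ _ h)
  exact isIso_of_mono_of_epi _

end Groth.Agent.H24Formal
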