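import Groth.Agent.H24Formal.ProIso
import Groth.Agent.H24Formal.SectionSystem
import Mathlib.Algebra.Category.ModuleCat.Limits
import Mathlib.CategoryTheory.Limits.Types.Limits

/-! The topology on the limit of a system pro-isomorphic to an adic one. -/

set_option autoImplicit false
set_option linter.style.haveILetI false

universe u

open CategoryTheory CategoryTheory.Limits AlgebraicGeometry Opposite TopologicalSpace

namespace Groth.Agent.H24Formal

variable {A : Type u} [CommRing A]

theorem limit_mod_ext (Y : ℕᵒᵖ ⥤ ModuleCat.{u} A) (x y : ↑(limit Y))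
    (h : ∀ n : ℕ, (limit.π Y (op n)).hom x = (limit.π Y (op n)).hom y) : x = y := by
  let hl := isLimitOfPreserves (forget (ModuleCat.{u} A)) (limit.isLimit Y)
  refine (Types.isLimitEquivSections hl).injective (Subtype.ext (funext fun j => ?_))
  exact h j.unop

theorem exists_limit_mod (Y : ℕᵒᵖ ⥤ ModuleCat.{u} A) (s : ∀ n : ℕ, Y.obj (op n))
    (hs : ∀ (n m : ℕ) (h : n ≤ m), (Y.map (homOfLE h).op).hom (s m) = s n) :
    ∃ x : ↑(limit Y), ∀ n, (limit.π Y (op n)).hom x = s n := by
  let hl := isLimitOfPreserves (forget (ModuleCat.{u} A)) (limit.isLimit Y)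
  let sec : (Y ⋙ forget (ModuleCat.{u} A)).sections := ⟨fun j => s j.unop, fun {i j} f => by
    have hf : f = (homOfLE (leOfHom f.unop)).op := Subsingleton.elim _ _
    rw [hf]
    exact hs j.unop i.unop _⟩
  exact ⟨(Types.isLimitEquivSections hl).symm sec, fun n => Types.isLimitEquivSections_symm_apply hl sec (op n)⟩

theorem exists_limit_mod_succ (Y : ℕᵒᵖ ⥤ ModuleCat.{u} A) (s : ∀ n : ℕ, Y.obj (op n))
    (hs : ∀ n, (Y.map (homOfLE (Nat.le_succ n)).op).hom (s (n + 1)) = s n) :
    ∃ x : ↑(limit Y), ∀ n, (limit.π Y (op n)).hom x = s n := by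
  refine exists_limit_mod Y s fun n m h => ?_
  induction h with
  | refl =>
    rw [show (homOfLE (le_refl n)).op = 𝟙 (op n) from Subsingleton.elim _ _, Y.map_id]
    rfl
  | @step m hle ih =>
    rw [show (homOfLE (Nat.le_succ_of_le hle)).op = (homOfLE (Nat.le_succ m)).op ≫ (homOfLE hle).op from
      Subsingleton.elim _ _, Y.map_comp]
    exact (congrArg (Y.map (homOfLE hle).op).hom (hs m)).trans ih

theorem limit_π_map (Y : ℕᵒᵖ ⥤ ModuleCat.{u} A) {n m : ℕ} (h : n ≤ m) (x : ↑(limit Y)) :
    (Y.map (homOfLE h).op).hom ((limit.π Y (op m)).hom x) = (limit.π Y (op n)).hom x :=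
  congr($(limit.w Y (homOfLE h).op) x)

/-- A system adic for `I` gives an adic system on its limit. -/
noncomputable def limitSystem (I : Ideal A) (Y : ℕᵒᵖ ⥤ ModuleCat.{u} A)
    (hsurj : ∀ n, Function.Surjective (Y.map (homOfLE (Nat.le_succ n)).op).hom)
    (hker : ∀ n, LinearMap.ker (Y.map (homOfLE (Nat.le_succ n)).op).hom = I ^ (n + 1) • ⊤) :
    H24Adic.AdicSystem I (fun n => ↑(Y.obj (op n))) ↑(limit Y) where
  f n := (Y.map (homOfLE (Nat.le_succ n)).op).hom
  hf := hsurj
  hker := hker
  π n := (limit.π Y (op n)).hom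
  hπ n := LinearMap.ext fun x => limit_π_map Y (Nat.le_succ n) x
  hinj x hx := limit_mod_ext Y x 0 fun n => (hx n).trans (map_zero _).symm
  hlift y hy := exists_limit_mod_succ Y y hy

theorem exists_ker_π_le_of_isProIsomorphic {I : Ideal A} (hI : I.FG) {X Y : ℕᵒᵖ ⥤ ModuleCat.{u} A}
    (h : Algz.IsProIsomorphic X Y)
    (hsurj : ∀ n, Function.Surjective (Y.map (homOfLE (Nat.le_succ n)).op).hom)
    (hker : ∀ n, LinearMap.ker (Y.map (homOfLE (Nat.le_succ n)).op).hom = I ^ (n + 1) • ⊤) (k : ℕ) :
    ∃ n : ℕ, LinearMap.ker (limit.π X (op n)).hom ≤ I ^ k • (⊤ : Submodule A ↑(limit X)) := by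
  obtain ⟨m, hm, hle, a, ha⟩ := h
  choose K hK b h1 h2 using ha
  have hnat : ∀ {n n' : ℕ} (h : n ≤ n') (x : X.obj (op (m n'))),
      (Y.map (homOfLE h).op).hom ((a.app (op n')).hom x) =
        (a.app (op n)).hom ((X.map (homOfLE (hm h)).op).hom x) := fun h x =>
    (congr($(a.naturality (homOfLE h).op) x)).symm
  let c : Cone Y :=
    { pt := limit X
      π :=
        { app := fun j => limit.π X (op (m j.unop)) ≫ a.app j
          naturality := fun i j f => by
            refine (Category.id_comp _).trans (ModuleCat.hom_ext (LinearMap.ext fun x => ?_))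
            show (a.app j).hom ((limit.π X (op (m j.unop))).hom x) =
              (Y.map f).hom ((a.app i).hom ((limit.π X (op (m i.unop))).hom x))
            rw [show f = (homOfLE (leOfHom f.unop)).op from Subsingleton.elim _ _, hnat (leOfHom f.unop),
              limit_π_map] } }
  let α : ↑(limit X) →ₗ[A] ↑(limit Y) := (limit.lift Y c).hom
  have hα : ∀ n x, (limit.π Y (op n)).hom (α x) = (a.app (op n)).hom ((limit.π X (op (m n))).hom x) :=
    fun n x => congr($(limit.lift_π c (op n)) x)
  have hba : ∀ n (x : X.obj (op (m (K n)))),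
      (b n).hom ((a.app (op (K n))).hom x) = (X.map (homOfLE (hm (hK n))).op).hom x :=
    fun n x => (congr($(h1 n) x)).trans rfl
  have hαinj : Function.Injective α := by
    rw [injective_iff_map_eq_zero]
    intro x hx
    refine limit_mod_ext X x 0 fun n => ?_
    rw [map_zero, ← limit_π_map X (hle n) x, ← limit_π_map X (hm (hK n)) x, ← hba, ← hα, hx, map_zero]
    erw [map_zero, map_zero]
  have hαsurj : Function.Surjective α := by
    intro y
    let x : ∀ n : ℕ, X.obj (op n) := fun n =>
      (X.map (homOfLE (hle n)).op).hom ((b n).hom ((limit.π Y (op (K n))).hom y))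
    have hcomp : ∀ (n : ℕ) (N : ℕ) (h : K n ≤ N) (z : X.obj (op (m N))), (limit.π Y (op N)).hom y = (a.app (op N)).hom z →
        x n = (X.map (homOfLE ((hle n).trans (hm ((hK n).trans h)))).op).hom z := by
      intro n N h z hz
      show (X.map (homOfLE (hle n)).op).hom ((b n).hom ((limit.π Y (op (K n))).hom y)) = _
      rw [← limit_π_map Y h y, hz, hnat h, hba, ← LinearMap.comp_apply, ← LinearMap.comp_apply, ← ModuleCat.hom_comp,
        ← ModuleCat.hom_comp, ← X.map_comp, ← X.map_comp]
      rfl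
    have hz : ∀ N, (limit.π Y (op N)).hom y = (a.app (op N)).hom ((b N).hom ((limit.π Y (op (K N))).hom y)) := fun N =>
      ((congr($(h2 N) ((limit.π Y (op (K N))).hom y))).trans (limit_π_map Y (hK N) y)).symm
    obtain ⟨w, hw⟩ := exists_limit_mod X x fun n n' hnn' => by
      rw [hcomp n' _ (le_max_right (K n) (K n')) _ (hz _), hcomp n _ (le_max_left (K n) (K n')) _ (hz _)]
      rw [← LinearMap.comp_apply, ← ModuleCat.hom_comp, ← X.map_comp]
      rfl
    refine ⟨w, limit_mod_ext Y _ _ fun n => ?_⟩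
    rw [hα, hw, hcomp (m n) _ (le_max_left (K (m n)) n) _ (hz _), ← hnat (le_max_right (K (m n)) n), ← hz, limit_π_map]
  let e := LinearEquiv.ofBijective α ⟨hαinj, hαsurj⟩
  refine ⟨m k, fun x hx => ?_⟩
  have hx' : α x ∈ I ^ (k + 1) • (⊤ : Submodule A ↑(limit Y)) := by
    rw [← (limitSystem I Y hsurj hker).ker_eq_of_fg hI, LinearMap.mem_ker]
    show (limit.π Y (op k)).hom (α x) = 0
    rw [hα, show (limit.π X (op (m k))).hom x = 0 from hx]
    exact map_zero _
  have hx'' := Submodule.mem_map_of_mem (f := e.symm.toLinearMap) hx'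
  rw [Submodule.map_smul'', show e.symm.toLinearMap (α x) = x from e.symm_apply_apply x] at hx''
  exact Submodule.smul_mono (Ideal.pow_le_pow_right (Nat.le_succ k)) le_top hx''

variable (A) in
/-- Sections of a module on `Spec A` as the global section functor. -/
noncomputable def secEquiv [(Spec (CommRingCat.of A)).Over (Spec (CommRingCat.of A))]
    (hover : (Spec (CommRingCat.of A)) ↘ (Spec (CommRingCat.of A)) = 𝟙 _)
    (M : (Spec (CommRingCat.of A)).Modules) :
    SecMod A M ⊤ ≃ₗ[A] (moduleSpecΓFunctor (R := CommRingCat.of A)).obj M where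
  toFun x := x
  invFun x := x
  map_add' _ _ := rfl
  map_smul' a x := by
    show scalA (X := Spec (CommRingCat.of A)) A ⊤ a • (show Γ(M, ⊤) from x) = _
    simp only [scalA, Coh.toGlobal, hover]
    rfl
  left_inv _ := rfl
  right_inv _ := rfl

end Groth.Agent.H24Formal
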