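import Groth.Agent.H24Formal.CohFormal
import Groth.Agent.H10Coh.FinType2

/-! Transport of coherent formal modules along isomorphisms of systems. -/

set_option autoImplicit false
set_option linter.style.haveILetI false

universe u

open CategoryTheory CategoryTheory.Limits AlgebraicGeometry Opposite

namespace Groth.Agent.H24Formal

variable {A : Type u} [CommRing A] {X : Scheme.{u}} [X.Over (Spec (CommRingCat.of A))]

theorem killedBy_of_iso {J : Ideal A} {M N : X.Modules} (e : M ≅ N) (h : Formal.KilledBy J M) :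
    Formal.KilledBy J N := fun a ha => by
  rw [← cancel_epi e.hom, comp_zero, ← smulMod_comm, h a ha, zero_comp]

theorem isCohFormal_of_iso {I : Ideal A} {G G' : ℕᵒᵖ ⥤ X.Modules} (e : G ≅ G') (hG : Formal.IsCohFormal I G) :
    Formal.IsCohFormal I G' := by
  refine ⟨fun n => H10Coh.isCoh_of_iso (e.app (op n)) (hG.1 n), fun n => killedBy_of_iso (e.app (op n)) (hG.2.1 n),
    fun n => ?_⟩
  obtain ⟨h, hiso⟩ := hG.2.2 n
  let J := I ^ (n + 1)
  have hk : Formal.KilledBy J (G'.obj (op n)) := killedBy_of_iso (e.app (op n)) (hG.2.1 n)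
  refine ⟨smulFamily_comp_eq_zero _ hk, ?_⟩
  let em := cokernel.mapIso (Formal.smulFamily J (G.obj (op (n + 1)))) (Formal.smulFamily J (G'.obj (op (n + 1))))
    (Limits.Sigma.mapIso fun _ => e.app (op (n + 1))) (e.app (op (n + 1))) (by
      refine Sigma.hom_ext _ _ fun a => ?_
      have e2 := smulMod_comm (e.app (op (n + 1))).hom (a : A)
      simpa [Formal.smulFamily] using! e2)
  have e1 : cokernel.desc _ _ (smulFamily_comp_eq_zero (G'.map (homOfLE (Nat.le_succ n)).op) hk) =
      em.inv ≫ cokernel.desc _ _ h ≫ e.hom.app (op n) := by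
    rw [Iso.eq_inv_comp]
    refine coequalizer.hom_ext ?_
    erw [cokernel.π_desc_assoc, cokernel.π_desc_assoc, Category.assoc, cokernel.π_desc]
    exact (e.hom.naturality _).symm
  rw [e1]
  haveI := hiso
  infer_instance

end Groth.Agent.H24Formal
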