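import Groth.Prelude.Def_Algz

/-! Pro-isomorphic inverse systems. -/

set_option autoImplicit false
set_option linter.style.haveILetI false

universe w v u

open CategoryTheory CategoryTheory.Limits Opposite

namespace Groth.Agent.H24Formal

variable {C : Type u} [Category.{v} C] {D : Type w} [Category.{v} D]

theorem isProIsomorphic_map (P : C ⥤ D) {X Y : ARSys.PS C} (h : Algz.IsProIsomorphic X Y) :
    Algz.IsProIsomorphic (X ⋙ P) (Y ⋙ P) := by
  obtain ⟨m, hm, hle, a, ha⟩ := h
  let a' : DerCA.reindex (X ⋙ P) hm ⟶ Y ⋙ P :=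
    { app := fun n => P.map (a.app n)
      naturality := fun n n' f => by
        change P.map _ ≫ P.map (a.app n') = P.map (a.app n) ≫ P.map _
        rw [← P.map_comp, ← P.map_comp]
        exact congrArg P.map (a.naturality f) }
  refine ⟨m, hm, hle, a', fun n => ?_⟩
  obtain ⟨k, hk, b, h1, h2⟩ := ha n
  exact ⟨k, hk, P.map b, (P.map_comp _ _).symm.trans (congrArg P.map h1),
    (P.map_comp _ _).symm.trans (congrArg P.map h2)⟩

theorem isProIsomorphic_of_iso_left {X X' Y : ARSys.PS C} (e : X ≅ X') (h : Algz.IsProIsomorphic X Y) :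
    Algz.IsProIsomorphic X' Y := by
  obtain ⟨m, hm, hle, a, ha⟩ := h
  let c : DerCA.reindex X' hm ⟶ DerCA.reindex X hm := Functor.whiskerLeft _ e.inv
  refine ⟨m, hm, hle, c ≫ a, fun n => ?_⟩
  obtain ⟨k, hk, b, h1, h2⟩ := ha n
  refine ⟨k, hk, b ≫ e.hom.app (op (m n)), ?_, ?_⟩
  · change (e.inv.app (op (m k)) ≫ a.app (op k)) ≫ b ≫ e.hom.app (op (m n)) = X'.map _
    erw [Category.assoc, ← Category.assoc (a.app (op k)), h1]
    change e.inv.app (op (m k)) ≫ X.map _ ≫ e.hom.app (op (m n)) = X'.map _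
    rw [e.hom.naturality, ← Category.assoc, ← NatTrans.comp_app, e.inv_hom_id, NatTrans.id_app, Category.id_comp]
  · change (b ≫ e.hom.app (op (m n))) ≫ e.inv.app (op (m n)) ≫ a.app (op n) = Y.map _
    erw [Category.assoc, ← Category.assoc (e.hom.app (op (m n))), ← NatTrans.comp_app, e.hom_inv_id, NatTrans.id_app]
    erw [Category.id_comp]
    exact h2

/-- A system pro-isomorphic to a system with epimorphic transition maps is Mittag-Leffler. -/
theorem isML_of_isProIsomorphic [Abelian C] {X Y : ARSys.PS C} (h : Algz.IsProIsomorphic X Y)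
    (hY : ∀ {n m : ℕ} (hnm : n ≤ m), Epi (ARSys.tr Y hnm)) : ARSys.IsML X := by
  obtain ⟨m, hm, hle, a, ha⟩ := h
  have hepi : ∀ N, Epi (a.app (op N)) := fun N => by
    obtain ⟨k, hk, b, -, h2⟩ := ha N
    haveI := hY hk
    exact epi_of_epi_fac h2
  intro n
  obtain ⟨k, hk, b, h1, -⟩ := ha n
  let b' : Y.obj (op k) ⟶ X.obj (op n) := b ≫ ARSys.tr X (hle n)
  have key : ∀ N (hN : k ≤ N), imageSubobject (ARSys.tr X ((hk.trans hN).trans (hle N))) = imageSubobject b' := by
    intro N hN
    haveI := hepi N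
    haveI := hY hN
    have e : ARSys.tr X ((hk.trans hN).trans (hle N)) = (a.app (op N) ≫ ARSys.tr Y hN) ≫ b' := by
      have e1 : a.app (op N) ≫ ARSys.tr Y hN = (DerCA.reindex X hm).map (homOfLE hN).op ≫ a.app (op k) :=
        (a.naturality (homOfLE hN).op).symm
      erw [e1, Category.assoc, ← Category.assoc (a.app (op k)), h1]
      change X.map _ = X.map _ ≫ X.map _ ≫ X.map _
      rw [← X.map_comp, ← X.map_comp]
      exact congrArg X.map (Subsingleton.elim _ _)
    rw [e]
    haveI : Epi (a.app (op N) ≫ ARSys.tr Y hN) := epi_comp _ _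
    have hle' := imageSubobject_comp_le (a.app (op N) ≫ ARSys.tr Y hN) b'
    haveI hi : IsIso (Subobject.ofLE _ _ hle') := isIso_of_mono_of_epi _
    exact le_antisymm hle'
      (Subobject.le_of_comm (@asIso _ _ _ _ (Subobject.ofLE _ _ hle') hi).inv
        (by rw [Iso.inv_comp_eq]; exact (Subobject.ofLE_arrow _).symm))
  have hge : ∀ s, m k ≤ n + s → imageSubobject (ARSys.tr X (Nat.le_add_right n s)) = imageSubobject b' := by
    intro s hs
    refine le_antisymm ?_ ?_
    · rw [← key k le_rfl]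
      have e : ARSys.tr X (Nat.le_add_right n s) = ARSys.tr X hs ≫ ARSys.tr X ((hk.trans le_rfl).trans (hle k)) :=
        (congrArg X.map (Subsingleton.elim _ _)).trans (X.map_comp _ _)
      rw [e]
      exact imageSubobject_comp_le _ _
    · have hkN : k ≤ n + s := (hle k).trans hs
      rw [← key (n + s) hkN]
      have e : ARSys.tr X ((hk.trans hkN).trans (hle (n + s))) = ARSys.tr X (hle (n + s)) ≫ ARSys.tr X (Nat.le_add_right n s) :=
        (congrArg X.map (Subsingleton.elim _ _)).trans (X.map_comp _ _)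
      rw [e]
      exact imageSubobject_comp_le _ _
  refine ⟨m k, fun s hs => ?_⟩
  exact (hge s (hs.trans (Nat.le_add_left s n))).trans (hge (m k) (Nat.le_add_left (m k) n)).symm

end Groth.Agent.H24Formal
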