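import Groth.Agent.H24Formal.SectionSystem
import Groth.Agent.H24Formal.Completion
import Groth.Agent.H10Coh.TildeExact
import Groth.Agent.H10Coh.OpenSpec

/-! Coherent formal modules on the spectrum of an adically complete Noetherian ring are completions. -/

set_option autoImplicit false
set_option linter.style.haveILetI false

universe u

open CategoryTheory CategoryTheory.Limits AlgebraicGeometry Opposite TopologicalSpace

namespace Groth.Agent.H24Formal

theorem additive_tilde (R : CommRingCat.{u}) : (tilde.functor R).Additive := inferInstance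

variable (A : Type u) [CommRing A]

instance additive_tilde_of : (tilde.functor (CommRingCat.of A)).Additive := additive_tilde _

instance preservesFiniteLimits_tilde_of : PreservesFiniteLimits (tilde.functor (CommRingCat.of A)) :=
  @H10Coh.tilde_preservesFiniteLimits (CommRingCat.of A)

instance preservesFiniteColimits_tilde_of : PreservesFiniteColimits (tilde.functor (CommRingCat.of A)) :=
  @H10Coh.tilde_preservesFiniteColimits (CommRingCat.of A)

local notation "ΓA" => moduleSpecΓFunctor (R := CommRingCat.of A)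

/-- A quotient of a module killed by `J`-multiples, seen through `tilde`. -/
theorem tilde_comp_eq_zero (J : Ideal A) [(Spec (CommRingCat.of A)).Over (Spec (CommRingCat.of A))]
    (hover : (Spec (CommRingCat.of A)) ↘ (Spec (CommRingCat.of A)) = 𝟙 _)
    (L : ModuleCat.{u} A) {C : (Spec (CommRingCat.of A)).Modules} (hC : Formal.KilledBy J C)
    (c : tilde (R := CommRingCat.of A) L ⟶ C) :
    tilde.map (R := CommRingCat.of A) (ModuleCat.ofHom (J • (⊤ : Submodule A L)).subtype) ≫ c = 0 := by
  let adj := tilde.adjunction (R := CommRingCat.of A)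
  let m : L ⟶ (ΓA).obj C := adj.unit.app L ≫ (ΓA).map c
  let ι := ModuleCat.ofHom (J • (⊤ : Submodule A L)).subtype
  apply (adj.homEquiv _ C).injective
  have h0 : adj.unit.app _ ≫ (ΓA).map ((tilde.functor (CommRingCat.of A)).map ι ≫ c) = ι ≫ m := by
    rw [Functor.map_comp, ← Category.assoc, ← Category.assoc ι]
    exact congrArg (· ≫ (ΓA).map c) (adj.unit.naturality ι).symm
  refine (Adjunction.homEquiv_unit adj _ _ _).trans (h0.trans ?_)
  refine Eq.trans ?_ (Adjunction.homEquiv_unit adj _ _ _).symm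
  refine ModuleCat.hom_ext (LinearMap.ext fun x => ?_)
  show m (x : L) = 0
  have key : ∀ q : L, q ∈ J • (⊤ : Submodule A L) → m q = 0 := by
    intro q hq
    refine Submodule.smul_induction_on hq (fun b hb y _ => ?_) fun p r hp hr => ?_
    · refine (map_smul m.hom b y).trans ?_
      have h1 := congr($(congrArg (fun k => Scheme.Modules.Hom.app k ⊤) (hC b hb)) (m y))
      refine Eq.trans ?_ h1
      refine Eq.trans ?_ (smulMod_app C b ⊤ (m y)).symm
      simp only [scalA, Coh.toGlobal, hover]
      rfl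
    · exact (map_add m.hom p r).trans (by rw [show m.hom p = 0 from hp, show m.hom r = 0 from hr, add_zero])
  exact key _ x.2

theorem exists_completion_iso_of_isCohFormal_spec [IsNoetherianRing A] (I : Ideal A) [IsAdicComplete I A]
    [(Spec (CommRingCat.of A)).Over (Spec (CommRingCat.of A))]
    (hover : (Spec (CommRingCat.of A)) ↘ (Spec (CommRingCat.of A)) = 𝟙 _)
    (G : ℕᵒᵖ ⥤ (Spec (CommRingCat.of A)).Modules) (hG : Formal.IsCohFormal I G) :
    ∃ M : ModuleCat.{u} A, Module.Finite A M ∧
      Nonempty (Formal.completion I (tilde (R := CommRingCat.of A) M) ≅ G) := by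
  have hq : Formal2.IsQCohFormal I G := ⟨fun n => (hG.1 n).1, hG.2.1, hG.2.2⟩
  let S := sectionSystem (IsNoetherian.noetherian I) hq (isAffineOpen_top (Spec (CommRingCat.of A)))
  let e : ∀ M : (Spec (CommRingCat.of A)).Modules, SecMod A M ⊤ ≃ₗ[A] (ΓA).obj M := fun M =>
    { toFun := fun x => x
      invFun := fun x => x
      map_add' := fun _ _ => rfl
      map_smul' := fun a x => by
        show scalA (X := Spec (CommRingCat.of A)) A ⊤ a • (show Γ(M, ⊤) from x) = _
        simp only [scalA, Coh.toGlobal, hover]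
        rfl
      left_inv := fun _ => rfl
      right_inv := fun _ => rfl }
  haveI : Module.Finite A (SecMod A (G.obj (op 0)) ⊤) := by
    haveI := ((H10Coh.isCoh_iff_finite_sections _).1 (hG.1 0)).2 ⊤ (isAffineOpen_top _)
    haveI : Module.Finite A ((ΓA).obj (G.obj (op 0))) := H10Coh.finite_ΓSpec (R := CommRingCat.of A) (G.obj (op 0))
    exact Module.Finite.equiv (e (G.obj (op 0))).symm
  let L : ModuleCat.{u} A := SecMod A (limit G) ⊤
  haveI hLfin : Module.Finite A L := S.finite
  refine ⟨L, hLfin, ?_⟩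
  let p : ∀ n : ℕ, L ⟶ (ΓA).obj (G.obj (op n)) := fun n =>
    @ModuleCat.ofHom A _ (L : Type u) ((ΓA).obj (G.obj (op n)) : Type u) _ L.isModule _
      ((ΓA).obj (G.obj (op n))).isModule ((e (G.obj (op n))).toLinearMap ∘ₗ S.π n)
  haveI hiso : ∀ n : ℕ, IsIso (Scheme.Modules.fromTildeΓ (R := CommRingCat.of A) (G.obj (op n))) := fun n =>
    @Scheme.Modules.isIso_fromTildeΓ_of_isQuasicoherent (CommRingCat.of A) _ (hq.1 n)
  let ε : ∀ n : ℕ, tilde (R := CommRingCat.of A) ((ΓA).obj (G.obj (op n))) ≅ G.obj (op n) := fun n =>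
    @asIso _ _ _ _ (Scheme.Modules.fromTildeΓ (R := CommRingCat.of A) (G.obj (op n))) (hiso n)
  let φ : ∀ n : ℕ, tilde (R := CommRingCat.of A) L ⟶ G.obj (op n) := fun n =>
    tilde.map (R := CommRingCat.of A) (p n) ≫ (ε n).hom
  have hp : ∀ n, p (n + 1) ≫ (ΓA).map (G.map (homOfLE (Nat.le_succ n)).op) = p n := fun n =>
    ModuleCat.hom_ext (LinearMap.ext fun x => S.π_apply n x)
  have hφt : ∀ n, φ (n + 1) ≫ G.map (homOfLE (Nat.le_succ n)).op = φ n := fun n => by
    have hnat : tilde.map (R := CommRingCat.of A) ((ΓA).map (G.map (homOfLE (Nat.le_succ n)).op)) ≫ (ε n).hom =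
        (ε (n + 1)).hom ≫ G.map (homOfLE (Nat.le_succ n)).op :=
      (Scheme.Modules.fromTildeΓNatTrans (R := CommRingCat.of A)).naturality (G.map (homOfLE (Nat.le_succ n)).op)
    have hm : tilde.map (R := CommRingCat.of A) (p n) = tilde.map (R := CommRingCat.of A) (p (n + 1)) ≫
        tilde.map (R := CommRingCat.of A) ((ΓA).map (G.map (homOfLE (Nat.le_succ n)).op)) :=
      (congrArg (fun z => (tilde.functor (CommRingCat.of A)).map z) (hp n).symm).trans
        ((tilde.functor (CommRingCat.of A)).map_comp _ _)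
    exact (Category.assoc _ _ _).trans ((congrArg (tilde.map (R := CommRingCat.of A) (p (n + 1)) ≫ ·) hnat.symm).trans
      ((Category.assoc _ _ _).symm.trans (congrArg (· ≫ (ε n).hom) hm.symm)))
  have hz : ∀ n, Formal.smulFamily (I ^ (n + 1)) (tilde (R := CommRingCat.of A) L) ≫ φ n = 0 := fun n =>
    smulFamily_comp_eq_zero _ (hG.2.1 n)
  have hψ : ∀ n, IsIso (cokernel.desc _ (φ n) (hz n)) := by
    intro n
    let K := I ^ (n + 1) • (⊤ : Submodule A L)
    have hpker : ∀ x : L, (p n) x = 0 ↔ x ∈ K := fun x => by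
      show S.π n x = 0 ↔ x ∈ I ^ (n + 1) • (⊤ : Submodule A L)
      rw [← LinearMap.mem_ker, S.ker_eq_of_finite]
    let T : ShortComplex (ModuleCat.{u} A) := ShortComplex.mk (ModuleCat.ofHom K.subtype) (p n)
      (ModuleCat.hom_ext (LinearMap.ext fun x => (hpker x).2 x.2))
    have hTe : T.Exact := (ShortComplex.ShortExact.mk' (S := T)
      ((ShortComplex.moduleCat_exact_iff T).2 fun x hx => ⟨⟨x, (hpker x).1 hx⟩, rfl⟩)
      ((ModuleCat.mono_iff_injective _).2 Subtype.val_injective)
      ((ModuleCat.epi_iff_surjective _).2 fun y => S.π_surjective n y)).exact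
    have hTs : T.ShortExact := ShortComplex.ShortExact.mk' (S := T) hTe
      ((ModuleCat.mono_iff_injective _).2 Subtype.val_injective)
      ((ModuleCat.epi_iff_surjective _).2 fun y => S.π_surjective n y)
    have hT := hTs.map_of_exact (tilde.functor (CommRingCat.of A))
    obtain ⟨g, hg⟩ := CokernelCofork.IsColimit.desc' hT.gIsCokernel
      (Formal.modPowπ I (n + 1) (tilde (R := CommRingCat.of A) L))
      (tilde_comp_eq_zero A (I ^ (n + 1)) hover L (killedBy_modPow I (n + 1) _) _)
    have hg' : tilde.map (R := CommRingCat.of A) (p n) ≫ g = Formal.modPowπ I (n + 1) _ := hg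
    haveI := hT.epi_g
    haveI : Epi (tilde.map (R := CommRingCat.of A) (p n)) := ‹Epi (T.map (tilde.functor (CommRingCat.of A))).g›
    let g' : tilde (R := CommRingCat.of A) ((ΓA).obj (G.obj (op n))) ⟶
      Formal.modPow I (n + 1) (tilde (R := CommRingCat.of A) L) := g
    have hg'' : tilde.map (R := CommRingCat.of A) (p n) ≫ g' = Formal.modPowπ I (n + 1) _ := hg'
    refine ⟨(ε n).inv ≫ g', coequalizer.hom_ext ?_, ?_⟩
    · change Formal.modPowπ I (n + 1) _ ≫ cokernel.desc _ (φ n) (hz n) ≫ (ε n).inv ≫ g' = Formal.modPowπ I (n + 1) _ ≫ 𝟙 _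
      refine (Category.assoc _ _ _).symm.trans ((congrArg (· ≫ (ε n).inv ≫ g') (cokernel.π_desc _ _ _)).trans ?_)
      exact ((Category.assoc _ _ _).trans (congrArg (tilde.map (R := CommRingCat.of A) (p n) ≫ ·)
        ((ε n).hom_inv_id_assoc g'))).trans (hg''.trans (Category.comp_id _).symm)
    · refine (cancel_epi (ε n).hom).1 ((cancel_epi (tilde.map (R := CommRingCat.of A) (p n))).1 ?_)
      refine (congrArg (tilde.map (R := CommRingCat.of A) (p n) ≫ ·)
        ((congrArg ((ε n).hom ≫ ·) (Category.assoc _ _ _)).trans ((ε n).hom_inv_id_assoc _))).trans ?_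
      refine (Category.assoc _ _ _).symm.trans ((congrArg (· ≫ cokernel.desc _ (φ n) (hz n)) hg'').trans ?_)
      exact (cokernel.π_desc _ _ _).trans (congrArg (tilde.map (R := CommRingCat.of A) (p n) ≫ ·) (Category.comp_id _).symm)
  let η : Formal.completion I (tilde (R := CommRingCat.of A) L) ⟶ G :=
    NatTrans.ofOpSequence (fun n => cokernel.desc _ (φ n) (hz n)) fun n => by
      simp only [Formal.completion, Functor.ofOpSequence_map_homOfLE_succ]
      refine coequalizer.hom_ext ?_
      change cokernel.π _ ≫ Formal.modPowTrans I (n + 1) _ ≫ _ = cokernel.π _ ≫ _ ≫ _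
      erw [← Category.assoc, Formal.modPowπ_trans, cokernel.π_desc_assoc]
      exact (cokernel.π_desc _ _ _).trans (hφt n).symm
  haveI : ∀ j, IsIso (η.app j) := fun j => hψ j.unop
  haveI : IsIso η := NatIso.isIso_of_isIso_app η
  exact ⟨asIso η⟩

end Groth.Agent.H24Formal
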