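import Groth.Agent.H24Formal.ModPow
import Groth.Agent.H24Formal.LimitSections

/-! A torsion-free module from a system of quotients by powers of an element. -/

set_option autoImplicit false
set_option linter.style.haveILetI false

universe u

open CategoryTheory CategoryTheory.Limits AlgebraicGeometry Opposite

namespace Groth.Agent.H24Formal

theorem exists_completion_iso_of_system {A : Type u} [CommRing A] {X : Scheme.{u}}
    [X.Over (Spec (CommRingCat.of A))] (f : A) (G : ℕᵒᵖ ⥤ X.Modules)
    (hqc : ∀ n : ℕ, (G.obj (op n)).IsQuasicoherent)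
    (h1 : ∀ n : ℕ, ∃ i : G.obj (op n) ⟶ G.obj (op (n + 1)), Mono i ∧
      G.map (homOfLE (Nat.le_succ n)).op ≫ i = Formal.smulMod A (G.obj (op (n + 1))) f ∧
      ∃ w : i ≫ G.map (homOfLE (Nat.zero_le (n + 1))).op = 0,
        (ShortComplex.mk i (G.map (homOfLE (Nat.zero_le (n + 1))).op) w).ShortExact) :
    ∃ F : X.Modules, Mono (Formal.smulMod A F f) ∧
      Nonempty (Formal.completion (Ideal.span ({f} : Set A)) F ≅ G) := by
  choose i hi hti hwi hS using h1
  let t : ∀ n, G.obj (op (n + 1)) ⟶ G.obj (op n) := fun n => G.map (homOfLE (Nat.le_succ n)).op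
  let p : ∀ n, G.obj (op n) ⟶ G.obj (op 0) := fun n => G.map (homOfLE (Nat.zero_le n)).op
  have htp : ∀ n, t n ≫ p n = p (n + 1) := fun n => (G.map_comp _ _).symm.trans rfl
  have hp0 : p 0 = 𝟙 _ := G.map_id _
  have ht : ∀ n, Epi (t n) := by
    intro n
    induction n with
    | zero =>
      haveI := (hS 0).epi_g
      have h : Epi (p 1) := inferInstanceAs (Epi (G.map (homOfLE (Nat.zero_le (0 + 1))).op))
      rw [← htp 0, hp0, Category.comp_id] at h
      exact h
    | succ n ih =>
      haveI := ih
      -- `t (n + 1)` hits the image of `i n` and covers `G 0`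
      have hit : i (n + 1) ≫ t (n + 1) = t n ≫ i n := by
        haveI : Mono (i n) := hi n
        rw [hti n]
        have e1 : i (n + 1) ≫ t (n + 1) ≫ i (n + 1) = Formal.smulMod A (G.obj (op (n + 1))) f ≫ i (n + 1) := by
          rw [hti (n + 1), smulMod_comm]
        haveI : Mono (i (n + 1)) := hi (n + 1)
        rw [← Category.assoc] at e1
        exact (cancel_mono (i (n + 1))).mp e1
      rw [Preadditive.epi_iff_cancel_zero]
      intro T g hg
      have h2 : i n ≫ g = 0 := by
        rw [← cancel_epi (t n), ← Category.assoc, ← hit, Category.assoc, hg, comp_zero, comp_zero]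
      obtain ⟨g', hg'⟩ := CokernelCofork.IsColimit.desc' (hS n).gIsCokernel g h2
      dsimp at hg'
      have h3 : p (n + 1 + 1) ≫ g' = 0 := by
        rw [← htp (n + 1), Category.assoc]
        exact (congrArg (t (n + 1) ≫ ·) hg').trans hg
      haveI := (hS (n + 1)).epi_g
      have h4 : g' = 0 := (cancel_epi (p (n + 1 + 1))).mp (h3.trans comp_zero.symm)
      exact hg'.symm.trans (by rw [h4, comp_zero])
  have hit : ∀ n, i (n + 1) ≫ t (n + 1) = t n ≫ i n := fun n => by
    haveI : Mono (i n) := hi n
    haveI : Mono (i (n + 1)) := hi (n + 1)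
    rw [hti n, ← cancel_mono (i (n + 1)), Category.assoc, hti (n + 1), smulMod_comm]
  have hepi : ∀ n, Epi (limit.π G (op n)) := epi_limit_π G hqc ht
  have hw : ∀ n, limit.π G (op (n + 1)) ≫ t n = limit.π G (op n) := fun n => limit.w G _
  let F := limit G
  let s := Formal.smulMod A F f
  have hsπ : ∀ n, s ≫ limit.π G (op (n + 1)) = limit.π G (op n) ≫ i n := fun n => by
    rw [smulMod_comm, ← hti n, ← Category.assoc, hw n]
  have hzero : ∀ n, Formal.smulMod A F (f ^ (n + 1)) ≫ limit.π G (op n) = 0 := by
    intro n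
    induction n with
    | zero =>
      rw [Nat.zero_add, pow_one, ← hw 0, ← Category.assoc]
      have h : i 0 ≫ t 0 = 0 := by
        rw [← Category.comp_id (t 0), ← hp0, htp 0]
        exact hwi 0
      exact (congrArg (· ≫ t 0) (hsπ 0)).trans (by rw [Category.assoc, h, comp_zero])
    | succ n ih =>
      rw [pow_succ', ← smulMod_mul, Category.assoc, hsπ, ← Category.assoc, ih, zero_comp]
  have hbase : ∀ {T : X.Modules} (x : T ⟶ F), x ≫ limit.π G (op 0) = 0 → ∃ y : T ⟶ F, y ≫ s = x := by
    intro T x hx
    have h : ∀ m, ∃ y : T ⟶ G.obj (op m), y ≫ i m = x ≫ limit.π G (op (m + 1)) := fun m => by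
      haveI := hi m
      haveI : Mono (ShortComplex.mk (i m) (G.map (homOfLE (Nat.zero_le (m + 1))).op) (hwi m)).f := hi m
      refine ⟨_, ((hS m).exact.lift_f (x ≫ limit.π G (op (m + 1))) ?_)⟩
      change (x ≫ limit.π G (op (m + 1))) ≫ G.map (homOfLE (Nat.zero_le (m + 1))).op = 0
      rw [Category.assoc, limit.w]
      exact hx
    choose y hy using h
    have hyt : ∀ m, y (m + 1) ≫ t m = y m := fun m => by
      haveI := hi m
      rw [← cancel_mono (i m), Category.assoc, ← hit m, ← Category.assoc, hy (m + 1), Category.assoc, hw (m + 1),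
        hy m]
    let c : Cone G :=
      { pt := T
        π := NatTrans.ofOpSequence (F := (Functor.const _).obj T) y fun m => by
          change 𝟙 T ≫ y m = y (m + 1) ≫ t m
          rw [Category.id_comp, hyt] }
    refine ⟨limit.lift G c, limit.hom_ext fun j => ?_⟩
    obtain ⟨n⟩ := j
    have hlift : ∀ m, limit.lift G c ≫ limit.π G (op m) = y m := fun m => limit.lift_π c (op m)
    cases n with
    | zero =>
      rw [hx, Category.assoc]
      have h0 := hzero 0
      rw [Nat.zero_add, pow_one] at h0
      rw [h0, comp_zero]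
    | succ n => rw [Category.assoc, hsπ, ← Category.assoc, hlift, hy]
  have hker : ∀ n, ∀ {T : X.Modules} (x : T ⟶ F), x ≫ limit.π G (op n) = 0 →
      ∃ y : T ⟶ F, y ≫ Formal.smulMod A F (f ^ (n + 1)) = x := by
    intro n
    induction n with
    | zero => intro T x hx; rw [Nat.zero_add, pow_one]; exact hbase x hx
    | succ n ih =>
      intro T x hx
      obtain ⟨y, hy⟩ := hbase x (by
        rw [← limit.w G (homOfLE (Nat.zero_le (n + 1))).op, ← Category.assoc, hx, zero_comp])
      have hy0 : y ≫ limit.π G (op n) = 0 := by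
        haveI := hi n
        rw [← cancel_mono (i n), Category.assoc, ← hsπ, ← Category.assoc, hy, hx, zero_comp]
      obtain ⟨z, hz⟩ := ih y hy0
      exact ⟨z, by rw [pow_succ', ← smulMod_mul, ← Category.assoc, hz, hy]⟩
  refine ⟨F, ?_, ?_⟩
  · rw [Preadditive.mono_iff_cancel_zero]
    intro T x hx
    refine limit.hom_ext fun j => ?_
    obtain ⟨n⟩ := j
    haveI := hi n
    rw [zero_comp, ← cancel_mono (i n), Category.assoc, ← hsπ, ← Category.assoc, hx, zero_comp, zero_comp]
  let φ : ∀ n, Formal.modPow (Ideal.span {f}) (n + 1) F ⟶ G.obj (op n) := fun n =>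
    cokernel.desc _ (limit.π G (op n)) (smulFamily_comp_eq_zero_of_span f (n + 1) _ (hzero n))
  have hφ : ∀ n, Formal.modPowπ (Ideal.span {f}) (n + 1) F ≫ φ n = limit.π G (op n) := fun n => cokernel.π_desc _ _ _
  have hiso : ∀ n, IsIso (φ n) := fun n => by
    haveI := hepi n
    haveI : Epi (φ n) := epi_of_epi_fac (hφ n)
    haveI : Mono (φ n) := by
      rw [Preadditive.mono_iff_cancel_zero]
      intro T x hx
      obtain ⟨T', q, hq, y, hy⟩ := surjective_up_to_refinements_of_epi (Formal.modPowπ (Ideal.span {f}) (n + 1) F) x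
      obtain ⟨z, hz⟩ := hker n y (by rw [← hφ n, ← Category.assoc, ← hy, Category.assoc, hx, comp_zero])
      haveI := hq
      rw [← cancel_epi q, hy, ← hz, Category.assoc, smulMod_pow_π, comp_zero, comp_zero]
    exact isIso_of_mono_of_epi _
  let η : Formal.completion (Ideal.span ({f} : Set A)) F ⟶ G :=
    NatTrans.ofOpSequence φ fun n => by
      simp only [Formal.completion, Functor.ofOpSequence_map_homOfLE_succ]
      change Formal.modPowTrans (Ideal.span {f}) (n + 1) F ≫ φ n = φ (n + 1) ≫ t n
      rw [← cancel_epi (Formal.modPowπ (Ideal.span {f}) (n + 1 + 1) F), ← Category.assoc,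
        Formal.modPowπ_trans, hφ, ← Category.assoc, hφ, hw]
  haveI : ∀ j, IsIso (η.app j) := fun j => by
    obtain ⟨n⟩ := j
    exact hiso n
  haveI : IsIso η := NatIso.isIso_of_isIso_app η
  exact ⟨asIso η⟩

end Groth.Agent.H24Formal
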