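import Groth.Agent.H24Formal.CohFormal

/-! A coherent formal module killed by a fixed power of the ideal is the system of a module. -/

set_option autoImplicit false
set_option linter.style.haveILetI false

universe u

open CategoryTheory CategoryTheory.Limits AlgebraicGeometry Opposite

namespace Groth.Agent.H24Formal

variable {A : Type u} [CommRing A] {X : Scheme.{u}} [X.Over (Spec (CommRingCat.of A))]

theorem smulFamily_eq_zero {J : Ideal A} {M : X.Modules} (h : Formal.KilledBy J M) : Formal.smulFamily J M = 0 := by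
  refine Sigma.hom_ext _ _ fun a => ?_
  rw [Formal.smulFamily, Sigma.ι_desc, comp_zero, h a a.2]

theorem exists_completion_iso_of_killedBy {I : Ideal A} {F : ℕᵒᵖ ⥤ X.Modules} (hF : Formal.IsCohFormal I F) (c : ℕ)
    (hc : ∀ n : ℕ, Formal.KilledBy (I ^ c) (F.obj (op n))) :
    ∃ M : X.Modules, Coh.IsCoh M ∧ Nonempty (Formal.completion I M ≅ F) := by
  -- from `c` on all transition maps are isomorphisms
  have hiso : ∀ {n m : ℕ} (h : n ≤ m), c ≤ n + 1 → IsIso (F.map (homOfLE h).op) := by
    intro n m h hcn
    haveI := (epi_and_factor hF h).1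
    obtain ⟨g, hg⟩ := (epi_and_factor hF h).2 (𝟙 _) (by
      rw [smulFamily_eq_zero fun a ha => hc m a (Ideal.pow_le_pow_right hcn ha), zero_comp])
    exact ⟨g, hg, by rw [← cancel_epi (F.map (homOfLE h).op), ← Category.assoc, hg, Category.id_comp, Category.comp_id]⟩
  have hi : ∀ n, IsIso (F.map (homOfLE (Nat.le_add_left c n)).op) := fun n => hiso _ (Nat.le_succ c)
  have hex : ∀ n, ∃ g : F.obj (op c) ⟶ F.obj (op n),
      F.map (homOfLE (Nat.le_add_left c n)).op ≫ g = F.map (homOfLE (Nat.le_add_right n c)).op := fun n =>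
    haveI := hi n
    ⟨inv (F.map (homOfLE (Nat.le_add_left c n)).op) ≫ F.map (homOfLE (Nat.le_add_right n c)).op,
      IsIso.hom_inv_id_assoc _ _⟩
  choose g hg using hex
  have hz : ∀ n, Formal.smulFamily (I ^ (n + 1)) (F.obj (op c)) ≫ g n = 0 := fun n =>
    smulFamily_comp_eq_zero _ (hF.2.1 n)
  have hφ : ∀ n, IsIso (cokernel.desc _ (g n) (hz n)) := by
    intro n
    haveI := hi n
    haveI : Epi (g n) := by
      haveI := (epi_and_factor hF (Nat.le_add_right n c)).1
      exact epi_of_epi_fac (hg n)
    obtain ⟨ψ, hψ⟩ := (epi_and_factor hF (Nat.le_add_right n c)).2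
      (F.map (homOfLE (Nat.le_add_left c n)).op ≫ cokernel.π (Formal.smulFamily (I ^ (n + 1)) (F.obj (op c)))) (by
        refine Sigma.hom_ext _ _ fun a => ?_
        simp only [Formal.smulFamily, Sigma.ι_desc_assoc, comp_zero]
        rw [← Category.assoc, smulMod_comm, Category.assoc]
        have h1 := Sigma.ι (fun _ : (I ^ (n + 1) : Ideal A) => F.obj (op c)) a ≫=
          cokernel.condition (Formal.smulFamily (I ^ (n + 1)) (F.obj (op c)))
        simp only [Formal.smulFamily, Sigma.ι_desc_assoc, comp_zero] at h1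
        exact (congrArg (F.map (homOfLE (Nat.le_add_left c n)).op ≫ ·) h1).trans comp_zero)
    have hgψ : g n ≫ ψ = cokernel.π _ := by
      rw [← cancel_epi (F.map (homOfLE (Nat.le_add_left c n)).op), ← Category.assoc, hg, hψ]
    refine ⟨ψ, coequalizer.hom_ext ?_, ?_⟩
    · rw [← Category.assoc, cokernel.π_desc, hgψ, Category.comp_id]
    · rw [← cancel_epi (g n), ← Category.assoc, hgψ, cokernel.π_desc, Category.comp_id]
  refine ⟨F.obj (op c), hF.1 c, ?_⟩
  let η : Formal.completion I (F.obj (op c)) ⟶ F :=
    NatTrans.ofOpSequence (fun n => cokernel.desc _ (g n) (hz n)) fun n => by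
      simp only [Formal.completion, Functor.ofOpSequence_map_homOfLE_succ]
      refine coequalizer.hom_ext ?_
      change cokernel.π _ ≫ Formal.modPowTrans I (n + 1) _ ≫ _ = cokernel.π _ ≫ _ ≫ _
      erw [← Category.assoc, Formal.modPowπ_trans, cokernel.π_desc_assoc]
      refine (cokernel.π_desc _ _ _).trans ?_
      haveI := hi (n + 1)
      rw [← cancel_epi (F.map (homOfLE (Nat.le_add_left c (n + 1))).op), ← Category.assoc, hg, ← Functor.map_comp,
        show (homOfLE (Nat.le_add_left c (n + 1))).op = (homOfLE (show n + c ≤ n + 1 + c by omega)).op ≫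
          (homOfLE (Nat.le_add_left c n)).op from Subsingleton.elim _ _, Functor.map_comp, Category.assoc, hg,
        ← Functor.map_comp]
      exact congrArg F.map (Subsingleton.elim _ _)
  haveI : ∀ j, IsIso (η.app j) := fun j => hφ j.unop
  haveI : IsIso η := NatIso.isIso_of_isIso_app η
  exact ⟨asIso η⟩

end Groth.Agent.H24Formal
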